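import Groth.Agent.H02CA.Adeq.Big.Local
import Groth.Agent.H02CA.Adeq.Prod
import Mathlib.CategoryTheory.Sites.LocallyBijective

/-!
# Adequate presheaves and locally bijective maps at affine objects
-/

set_option autoImplicit false
set_option linter.style.haveILetI false

universe u

open CategoryTheory Opposite Limits TensorProduct AlgebraicGeometry MorphismProperty

namespace Groth.Agent.H02CA.Adq

open Adeq

variable {P : MorphismProperty Scheme.{u}} [GoodCov P]

omit [GoodCov P] in
lemma jointlySurjectivePreserving_scheme (Q : MorphismProperty Scheme.{u}) : Scheme.IsJointlySurjectivePreserving Q where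
  exists_preimage_fst_triplet_of_prop {X Y S f g} _ _ x y h := by
    obtain ⟨z, hz, -⟩ := Scheme.Pullback.exists_preimage_pullback (f := f) (g := g) x y h
    exact ⟨z, hz⟩

/-- A covering sieve of an affine scheme contains a finite faithfully flat family. -/
theorem exists_affine_refine (hflat : ∀ {X Y : Scheme.{u}} (f : X ⟶ Y), P f → Flat f) {R : CommRingCat.{u}}
    {Sv : Sieve (Spec R)} (hS : Sv ∈ (Scheme.precoverage P).toGrothendieck (Spec R)) :
    ∃ (n : ℕ) (R' : Fin n → Type u) (_ : ∀ j, CommRing (R' j)) (_ : ∀ j, Algebra R (R' j)),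
      Module.FaithfullyFlat R (∀ j, R' j) ∧ (∀ j, Sv (algMap' R (R' j))) ∧
        Presieve.ofArrows (fun j => Spec (CommRingCat.of (R' j))) (fun j => algMap' R (R' j)) ∈
          (Scheme.precoverage P).coverings (Spec R) := by
  haveI := GoodCov.baseChange (P := P)
  haveI := GoodCov.comp (P := P)
  haveI := jointlySurjectivePreserving_scheme P
  haveI : P.ContainsIdentities := ⟨fun X => GoodCov.openImmersion (𝟙 X) inferInstance⟩
  haveI : P.RespectsIso :=
    respectsIso_of_isStableUnderComposition fun _ _ f (hf : IsIso f) =>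
      GoodCov.openImmersion f inferInstance
  obtain ⟨R₀, hR₀, hle⟩ := Precoverage.mem_toGrothendieck_iff_of_isStableUnderComposition.1 hS
  obtain ⟨E, rfl⟩ := Precoverage.mem_iff_exists_zeroHypercover.1 hR₀
  obtain ⟨n, R', b, i, c, hc, hcov⟩ := exists_refinement E.f E.mem₀ (𝟙 (Spec R))
  letI : ∀ j, Algebra R (R' j) := fun j => (Spec.preimage (b j)).hom.toAlgebra
  have hb : (fun j => algMap' R (R' j)) = b := funext fun j => Spec.map_preimage (b j)
  refine ⟨n, fun j => R' j, fun j => inferInstance, fun j => inferInstance, ?_, fun j => ?_, hb ▸ hcov⟩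
  · obtain ⟨hsurj, hP⟩ := (Scheme.ofArrows_mem_precoverage_iff P).1 hcov
    haveI : ∀ j, Module.Flat R (R' j) := fun j => by
      have h : Flat (Spec.map (Spec.preimage (b j))) := by
        rw [Spec.map_preimage]
        exact hflat _ (hP j)
      exact (HasRingHomProperty.Spec_iff (P := @Flat)).1 h
    refine faithfullyFlat_pi' (fun j => (R' j : Type u)) fun p => ?_
    obtain ⟨j, q, hq⟩ := hsurj p
    refine ⟨j, q, ?_⟩
    rw [← hq, ← congrFun hb j]
    rfl
  · have h := congrFun hb j
    change algMap' R (R' j) = b j at h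
    change Sv (algMap' R (R' j))
    rw [h, ← Category.comp_id (b j), ← hc j]
    exact Sv.downward_closed (hle _ _ ⟨i j⟩) (c j)

variable [BigSite.OSh (Scheme.precoverage P)] {S : Scheme.{u}}

/-- The object of an affine scheme over the base. -/
noncomputable abbrev baseObj {R : CommRingCat.{u}} (a : Spec R ⟶ S) : Over S :=
  (specOver a).obj (op (algOf R R))

/-- The morphism from the object of an algebra. -/
noncomputable abbrev jHom {R : CommRingCat.{u}} (a : Spec R ⟶ S) (B : Alg R) :
    (specOver a).obj (op B) ⟶ baseObj a :=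
  (specOver a).map (ofIdHom B).op

lemma baseObj_aux {R : CommRingCat.{u}} (a : Spec R ⟶ S) (B : Alg R) :
    Spec.map (CommRingCat.ofHom (algebraMap (CommRingCat.of (B : Type u)) (CommRingCat.of (B : Type u)))) ≫
        algMap' R (B : Type u) ≫ a =
      Spec.map (CommRingCat.ofHom (algebraMap R (B : Type u))) ≫ a := by
  rw [← Category.assoc, ← Spec.map_comp]
  exact congrArg (fun φ => Spec.map φ ≫ a) (CommRingCat.hom_ext (RingHom.ext fun _ => rfl))

/-- The object of an algebra is a base object. -/
noncomputable def baseObjIso {R : CommRingCat.{u}} (a : Spec R ⟶ S) (B : Alg R) :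
    baseObj (R := CommRingCat.of (B : Type u)) (algMap' R (B : Type u) ≫ a) ≅ (specOver a).obj (op B) :=
  overIso _ _ (baseObj_aux a B)

/-- Covering sieves of a base object in algebraic terms. -/
theorem exists_refine_base (hflat : ∀ {X Y : Scheme.{u}} (f : X ⟶ Y), P f → Flat f) {R : CommRingCat.{u}}
    (a : Spec R ⟶ S) (T : Sieve (baseObj a)) (hT : T ∈ QuotSh.J (Scheme.precoverage P) S (baseObj a)) :
    ∃ (n : ℕ) (R' : Fin n → Type u) (_ : ∀ j, CommRing (R' j)) (_ : ∀ j, Algebra R (R' j)),
      Module.FaithfullyFlat R (∀ j, R' j) ∧ (∀ j, T (jHom a (algOf R (R' j)))) ∧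
        Sieve.ofArrows (fun j => (specOver a).obj (op (algOf R (R' j)))) (fun j => jHom a (algOf R (R' j))) ∈
          QuotSh.J (Scheme.precoverage P) S (baseObj a) := by
  obtain ⟨n, R', i1, i2, hff, hmem, hcov⟩ := exists_affine_refine (R := R) hflat
    (Sv := Sieve.overEquiv (baseObj a) T) ((GrothendieckTopology.mem_over_iff _ _).1 hT)
  refine ⟨n, R', i1, i2, hff, fun j => ?_, ?_⟩
  · have h := (Sieve.overEquiv_iff T (algMap' R (R' j))).1 (hmem j)
    have hw : 𝟙 (Spec (CommRingCat.of (R' j))) ≫ algMap' R (R' j) ≫ (baseObj a).hom =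
        ((specOver a).obj (op (algOf R (R' j)))).hom := by
      rw [Category.id_comp]
      change algMap' R (R' j) ≫ Spec.map (CommRingCat.ofHom (algebraMap R R)) ≫ a = algMap' R (R' j) ≫ a
      refine congrArg (algMap' R (R' j) ≫ ·) ?_
      change Spec.map (CommRingCat.ofHom (algebraMap R R)) ≫ a = a
      rw [show CommRingCat.ofHom (algebraMap R R) = 𝟙 R from CommRingCat.hom_ext (RingHom.ext fun _ => rfl)]
      erw [Spec.map_id, Category.id_comp]
    have e : (Over.homMk (𝟙 _) hw : (specOver a).obj (op (algOf R (R' j))) ⟶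
        Over.mk (algMap' R (R' j) ≫ (baseObj a).hom)) ≫
          (Over.homMk (algMap' R (R' j)) rfl : Over.mk (algMap' R (R' j) ≫ (baseObj a).hom) ⟶ baseObj a) = jHom a (algOf R (R' j)) := by
      apply Over.OverMorphism.ext
      exact Category.id_comp _
    exact e ▸ T.downward_closed h _
  · rw [GrothendieckTopology.mem_over_iff, Sieve.overEquiv_ofArrows]
    exact Precoverage.generate_mem_toGrothendieck hcov

/-- Adequate at every affine object, for presheaves. -/
def AllAdeqPre {K : Precoverage Scheme.{u}} [BigSite.OSh K]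
    (P₀ : PresheafOfModules.{u + 1} (BigSite.ORing K S).obj) : Prop :=
  ∀ (R : CommRingCat.{u}) (a : Spec R ⟶ S), adequate R (FModPre K a P₀)

section Transfer

variable {K : Precoverage Scheme.{u}} [BigSite.OSh K] {P₀ Q : PresheafOfModules.{u + 1} (BigSite.ORing K S).obj}
  (φ : P₀ ⟶ Q)

lemma app_tr {U V : Over S} (e : U ⟶ V) (x : P₀.obj (op V)) :
    φ.app (op U) (tr P₀ e x) = tr Q e (φ.app (op V) x) :=
  PresheafOfModules.naturality_apply φ e.op x

lemma tr_iso_bijective (P₁ : PresheafOfModules.{u + 1} (BigSite.ORing K S).obj) {U V : Over S} (e : U ≅ V) :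
    Function.Bijective (tr P₁ e.hom) := by
  haveI : IsIso (P₁.presheaf.map e.hom.op) := inferInstance
  exact ConcreteCategory.bijective_of_isIso (P₁.presheaf.map e.hom.op)

lemma injective_transfer {U V : Over S} (e : U ≅ V) (h : Function.Injective (φ.app (op U))) :
    Function.Injective (φ.app (op V)) := fun x y hxy =>
  (tr_iso_bijective P₀ e).1 (h (by rw [app_tr, app_tr, hxy]))

lemma surjective_transfer {U V : Over S} (e : U ≅ V) (h : Function.Surjective (φ.app (op U))) :
    Function.Surjective (φ.app (op V)) := fun y => by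
  obtain ⟨x, hx⟩ := h (tr Q e.hom y)
  obtain ⟨x', rfl⟩ := (tr_iso_bijective P₀ e).2 x
  exact ⟨x', (tr_iso_bijective Q e).1 (by rw [← app_tr, hx])⟩

end Transfer

/-- Elements of a sheaf that agree locally are equal. -/
lemma eq_of_locally {K : Precoverage Scheme.{u}} [BigSite.OSh K] (N : BigSite.Mod K S) {U : Over S}
    {T : Sieve U} (hT : T ∈ QuotSh.J K S U) (x y : N.val.obj (op U))
    (h : ∀ ⦃V : Over S⦄ (f : V ⟶ U), T f → tr N.val f x = tr N.val f y) : x = y := by
  have hsh : Presieve.IsSheaf (QuotSh.J K S) (N.val.presheaf ⋙ CategoryTheory.forget AddCommGrpCat.{u + 1}) :=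
    (isSheaf_iff_isSheaf_of_type _ _).1 ((Presheaf.isSheaf_iff_isSheaf_forget (QuotSh.J K S) N.val.presheaf
      (CategoryTheory.forget AddCommGrpCat.{u + 1})).1 N.isSheaf)
  exact ((hsh T hT).isSeparatedFor).ext fun V f hf => h f hf

variable {P₀ : PresheafOfModules.{u + 1} (BigSite.ORing (Scheme.precoverage P) S).obj}
  {N : BigSite.Mod (Scheme.precoverage P) S} (φ : P₀ ⟶ N.val)

/-- A locally injective map out of an adequate presheaf is injective at affine objects. -/
theorem injective_base (hflat : ∀ {X Y : Scheme.{u}} (f : X ⟶ Y), P f → Flat f) (hP : AllAdeqPre P₀)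
    [Presheaf.IsLocallyInjective (QuotSh.J (Scheme.precoverage P) S) ((PresheafOfModules.toPresheaf _).map φ)]
    {R : CommRingCat.{u}} (a : Spec R ⟶ S) : Function.Injective (φ.app (op (baseObj a))) := by
  intro x y hxy
  obtain ⟨n, R', i1, i2, hff, hmem, -⟩ := exists_refine_base hflat a _
    (Presheaf.equalizerSieve_mem (QuotSh.J (Scheme.precoverage P) S)
      ((PresheafOfModules.toPresheaf _).map φ) (X := op (baseObj a)) x y hxy)
  have h := (glue_family (fun j => R' j) (hP R a)).sep ((sectOf a P₀ (algOf R R)).symm (x - y)) fun j => by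
    apply (sectOf a P₀ _).injective
    rw [sectOf_mp, AddEquiv.apply_symm_apply, map_sub, map_zero, sub_eq_zero]
    exact hmem j
  exact sub_eq_zero.1 ((AddEquiv.map_eq_zero_iff _).1 h)

/-- Injectivity at every object of an algebra. -/
theorem injective_specOver (hflat : ∀ {X Y : Scheme.{u}} (f : X ⟶ Y), P f → Flat f) (hP : AllAdeqPre P₀)
    [Presheaf.IsLocallyInjective (QuotSh.J (Scheme.precoverage P) S) ((PresheafOfModules.toPresheaf _).map φ)]
    {R : CommRingCat.{u}} (a : Spec R ⟶ S) (B : Alg R) :
    Function.Injective (φ.app (op ((specOver a).obj (op B)))) :=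
  injective_transfer φ (baseObjIso a B) (injective_base φ hflat hP _)

/-- A locally bijective map out of an adequate presheaf is surjective at affine objects. -/
theorem surjective_base (hflat : ∀ {X Y : Scheme.{u}} (f : X ⟶ Y), P f → Flat f) (hP : AllAdeqPre P₀)
    [Presheaf.IsLocallyInjective (QuotSh.J (Scheme.precoverage P) S) ((PresheafOfModules.toPresheaf _).map φ)]
    [Presheaf.IsLocallySurjective (QuotSh.J (Scheme.precoverage P) S) ((PresheafOfModules.toPresheaf _).map φ)]
    {R : CommRingCat.{u}} (a : Spec R ⟶ S) : Function.Surjective (φ.app (op (baseObj a))) := by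
  intro y
  obtain ⟨n, R', i1, i2, hff, hmem, hcov⟩ := exists_refine_base hflat a _
    (Presheaf.imageSieve_mem (QuotSh.J (Scheme.precoverage P) S) ((PresheafOfModules.toPresheaf _).map φ)
      (U := op (baseObj a)) y)
  choose x hx using hmem
  have hx' : ∀ j, φ.app _ (x j) = tr N.val (jHom a (algOf R (R' j))) y := hx
  obtain ⟨z, hz⟩ := (glue_family (fun j => R' j) (hP R a)).glue (fun j => (sectOf a P₀ _).symm (x j))
    fun j k D g h e => by
      apply (sectOf a P₀ D).injective
      apply injective_specOver φ hflat hP a D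
      rw [sectOf_mp, sectOf_mp, AddEquiv.apply_symm_apply, AddEquiv.apply_symm_apply, app_tr, app_tr, hx', hx',
        tr_comp, tr_comp, ← Functor.map_comp, ← Functor.map_comp, ← op_comp, ← op_comp, e]
  refine ⟨sectOf a P₀ (algOf R R) z, eq_of_locally N hcov _ _ ?_⟩
  rintro V f ⟨_, w, _, ⟨j⟩, rfl⟩
  have h : φ.app _ (tr P₀ (jHom a (algOf R (R' j))) (sectOf a P₀ (algOf R R) z)) =
      tr N.val (jHom a (algOf R (R' j))) y := by
    rw [← sectOf_mp, hz j, AddEquiv.apply_symm_apply, hx']
  rw [← tr_comp, ← tr_comp, ← app_tr _ (jHom a (algOf R (R' j))), h]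

/-- A locally bijective map out of an adequate presheaf is bijective at affine objects. -/
theorem bijective_specOver (hflat : ∀ {X Y : Scheme.{u}} (f : X ⟶ Y), P f → Flat f) (hP : AllAdeqPre P₀)
    [Presheaf.IsLocallyInjective (QuotSh.J (Scheme.precoverage P) S) ((PresheafOfModules.toPresheaf _).map φ)]
    [Presheaf.IsLocallySurjective (QuotSh.J (Scheme.precoverage P) S) ((PresheafOfModules.toPresheaf _).map φ)]
    {R : CommRingCat.{u}} (a : Spec R ⟶ S) (B : Alg R) :
    Function.Bijective (φ.app (op ((specOver a).obj (op B)))) :=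
  ⟨injective_specOver φ hflat hP a B, surjective_transfer φ (baseObjIso a B) (surjective_base φ hflat hP _)⟩

/-- A locally bijective map out of an adequate presheaf does not change adequacy. -/
theorem adequate_of_locally_bijective (hflat : ∀ {X Y : Scheme.{u}} (f : X ⟶ Y), P f → Flat f)
    (hP : AllAdeqPre P₀)
    [Presheaf.IsLocallyInjective (QuotSh.J (Scheme.precoverage P) S) ((PresheafOfModules.toPresheaf _).map φ)]
    [Presheaf.IsLocallySurjective (QuotSh.J (Scheme.precoverage P) S) ((PresheafOfModules.toPresheaf _).map φ)] :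
    adequateMod (Scheme.precoverage P) S N := by
  refine adequateMod_of_allAdeq fun R a => ?_
  have hiso : IsIso (FModPreMap (Scheme.precoverage P) a φ) :=
    isIso_of_bijective _ fun B => bijective_specOver φ hflat hP a B
  exact (adequate R).prop_of_iso (@asIso _ _ _ _ _ hiso) (hP R a)

end Groth.Agent.H02CA.Adq
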