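import Groth.Agent.H02CA.Adeq.Big.InjAcyclic
import Mathlib.CategoryTheory.Sites.SheafCohomology.Basic
import Mathlib.CategoryTheory.Abelian.GrothendieckCategory.EnoughInjectives
import Mathlib.Algebra.Homology.DerivedCategory.Ext.ExactSequences
import Mathlib.CategoryTheory.Sites.EpiMono
import Mathlib.RingTheory.Spectrum.Prime.RingHom

/-!
# Cartan's criterion on big sites
-/

set_option autoImplicit false
set_option linter.style.haveILetI false

universe u

open CategoryTheory Opposite Limits TensorProduct AlgebraicGeometry MorphismProperty CategoryTheory.Abelian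

namespace Groth.Agent.H02CA.Adq

open Adeq

variable {P : MorphismProperty Scheme.{u}} [GoodCov P] [BigSite.OSh (Scheme.precoverage P)] {S : Scheme.{u}}

/-- Exactness of the Amitsur sequences of all faithfully flat coverings of affine objects. -/
def GoodSheaf (F : BigSite.Ab (Scheme.precoverage P) S) : Prop :=
  ∀ (R : CommRingCat.{u}) (a : Spec R ⟶ S) (A : Type u) [CommRing A] [Algebra R A],
    Module.FaithfullyFlat R A → NerveExact a A F.obj

/-- Abelian sheaves are separated along coverings. -/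
lemma ab_eq_of_locally {J : GrothendieckTopology (Over S)} (F : Sheaf J AddCommGrpCat.{u + 1}) {U : Over S}
    {T : Sieve U} (hT : T ∈ J U) (x y : F.obj.obj (op U))
    (h : ∀ ⦃V : Over S⦄ (f : V ⟶ U), T f → F.obj.map f.op x = F.obj.map f.op y) : x = y := by
  have hsh : Presieve.IsSheaf J (F.obj ⋙ CategoryTheory.forget AddCommGrpCat.{u + 1}) :=
    (isSheaf_iff_isSheaf_of_type _ _).1 ((Presheaf.isSheaf_iff_isSheaf_forget J F.obj
      (CategoryTheory.forget AddCommGrpCat.{u + 1})).1 F.property)
  exact ((hsh T hT).isSeparatedFor).ext fun V f hf => h f hf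

lemma ab_eq_of_cover {R : CommRingCat.{u}} {a : Spec R ⟶ S} {J : GrothendieckTopology (Over S)}
    (F : Sheaf J AddCommGrpCat.{u + 1}) {B : Alg R} {ι : Type} (C' : ι → Alg R) (f : ∀ j, B ⟶ C' j)
    (hJ : Sieve.ofArrows (fun j => (specOver a).obj (op (C' j))) (fun j => (specOver a).map (f j).op) ∈
      J ((specOver a).obj (op B))) (x y : F.obj.obj (op ((specOver a).obj (op B))))
    (h : ∀ j, F.obj.map ((specOver a).map (f j).op).op x = F.obj.map ((specOver a).map (f j).op).op y) : x = y := by
  refine ab_eq_of_locally F hJ x y ?_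
  rintro V g ⟨_, w, _, ⟨j⟩, rfl⟩
  rw [op_comp, Functor.map_comp]
  exact congrArg (F.obj.map w.op) (h j)

/-- Abelian sheaves glue along coverings by algebras. -/
theorem ab_glue_of_cover {R : CommRingCat.{u}} (a : Spec R ⟶ S) {J : GrothendieckTopology (Over S)}
    (F : Sheaf J AddCommGrpCat.{u + 1}) {B : Alg R} {ι : Type} (C' : ι → Alg R) (f : ∀ j, B ⟶ C' j)
    (hJ : Sieve.ofArrows (fun j => (specOver a).obj (op (C' j))) (fun j => (specOver a).map (f j).op) ∈
      J ((specOver a).obj (op B))) (y : ∀ j, F.obj.obj (op ((specOver a).obj (op (C' j)))))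
    (hy : ∀ (j k : ι) (D : Alg R) (g : C' j ⟶ D) (h : C' k ⟶ D), f j ≫ g = f k ≫ h →
      F.obj.map ((specOver a).map g.op).op (y j) = F.obj.map ((specOver a).map h.op).op (y k)) :
    ∃ t : F.obj.obj (op ((specOver a).obj (op B))), ∀ j, F.obj.map ((specOver a).map (f j).op).op t = y j := by
  let C : ι → Over S := fun j => (specOver a).obj (op (C' j))
  let c : ∀ j, C j ⟶ (specOver a).obj (op B) := fun j => (specOver a).map (f j).op
  have hsh : Presieve.IsSheaf J (F.obj ⋙ CategoryTheory.forget AddCommGrpCat.{u + 1}) :=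
    (isSheaf_iff_isSheaf_of_type _ _).1 ((Presheaf.isSheaf_iff_isSheaf_forget J F.obj
      (CategoryTheory.forget AddCommGrpCat.{u + 1})).1 F.property)
  have hfor := (Presieve.isSheafFor_arrows_iff _ _).1
    ((Presieve.isSheafFor_iff_generate (Presieve.ofArrows C c)).2 (hsh _ hJ))
  obtain ⟨t, ht, -⟩ := hfor y (fun j k Z r r' hrr => by
    let q : Z.left ⟶ Spec R := r.left ≫ Spec.map (CommRingCat.ofHom (algebraMap R (C' j : Type u)))
    have hq : q ≫ a = Z.hom := (Category.assoc _ _ _).trans (Over.w r)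
    have hal : ∀ i, Spec.map (CommRingCat.ofHom (algebraMap R (C' i : Type u))) =
        (c i).left ≫ Spec.map (CommRingCat.ofHom (algebraMap R (B : Type u))) := fun i => by
      change _ = Spec.map _ ≫ Spec.map _
      rw [← Spec.map_comp]
      exact (congrArg (fun φ => Spec.map (CommRingCat.ofHom φ)) (f i).hom.comp_algebraMap).symm
    have hl : r.left ≫ (c j).left = r'.left ≫ (c k).left := congrArg CommaMorphism.left hrr
    have hq' : r'.left ≫ Spec.map (CommRingCat.ofHom (algebraMap R (C' k : Type u))) = q := by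
      refine (congrArg (r'.left ≫ ·) (hal k)).trans ?_
      refine ((Category.assoc _ _ _).symm.trans ?_).trans (congrArg (r.left ≫ ·) (hal j)).symm
      exact (congrArg (· ≫ _) hl.symm).trans (Category.assoc _ _ _)
    have e : f j ≫ gHom q r.left rfl = f k ≫ gHom q r'.left hq' := by
      rw [comp_gHom, comp_gHom]
      exact gHom_congr q hl _
    have h := congrArg (F.obj.map (toG a q hq).op) (hy j k (gAlg q) (gHom q r.left rfl) (gHom q r'.left hq') e)
    have key : ∀ (i : ι) (s : Z ⟶ C i) (hs : s.left ≫ Spec.map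
        (CommRingCat.ofHom (algebraMap R (C' i : Type u))) = q),
        F.obj.map s.op (y i) =
          F.obj.map (toG a q hq).op (F.obj.map ((specOver a).map (gHom q s.left hs).op).op (y i)) := fun i s hs => by
      conv_lhs => rw [← toG_comp a q hq s hs, op_comp, Functor.map_comp]
      rfl
    exact (key j r rfl).trans (h.trans (key k r' hq').symm))
  exact ⟨t, ht⟩

/-- Abelian sheaves turn finite products of algebras into products. -/
theorem ab_glue_prod {R : CommRingCat.{u}} (a : Spec R ⟶ S) {n : ℕ}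
    (R' : Fin n → Type u) [∀ j, CommRing (R' j)] [∀ j, Algebra R (R' j)] :
    Sieve.ofArrows (fun j => (specOver a).obj (op (algOf R (R' j)))) (fun j => (specOver a).map (projHom R' j).op) ∈
        QuotSh.J (Scheme.precoverage P) S ((specOver a).obj (op (algOf R (∀ j, R' j)))) ∧
      ∀ (F : BigSite.Ab (Scheme.precoverage P) S)
        (y : ∀ j, F.obj.obj (op ((specOver a).obj (op (algOf R (R' j)))))),
        ∃ z : F.obj.obj (op ((specOver a).obj (op (algOf R (∀ j, R' j))))),
          ∀ j, F.obj.map ((specOver a).map (projHom R' j).op).op z = y j := by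
  classical
  have hJ : Sieve.ofArrows (fun j => (specOver a).obj (op (algOf R (R' j))))
      (fun j => (specOver a).map (projHom R' j).op) ∈
        QuotSh.J (Scheme.precoverage P) S ((specOver a).obj (op (algOf R (∀ j, R' j)))) := by
    rw [GrothendieckTopology.mem_over_iff, Sieve.overEquiv_ofArrows]
    refine Precoverage.generate_mem_toGrothendieck ((Scheme.ofArrows_mem_precoverage_iff P).2
      ⟨fun x => ?_, fun j => GoodCov.openImmersion _
        (inferInstanceAs (IsOpenImmersion (Spec.map (CommRingCat.ofHom (Pi.evalRingHom R' j)))))⟩)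
    obtain ⟨j, q, hq⟩ := PrimeSpectrum.exists_comap_evalRingHom_eq (R := R') x
    exact ⟨j, q, hq⟩
  refine ⟨hJ, fun F y => ab_glue_of_cover a F _ (projHom R') hJ y fun j k D g h e => ?_⟩
  have e' : ∀ b : ∀ j, R' j, g.hom (b j) = h.hom (b k) := fun b =>
    congrArg (fun f : algOf R (∀ j, R' j) ⟶ D => f.hom b) e
  by_cases hjk : j = k
  · subst hjk
    obtain rfl : g = h := by
      apply CommAlgCat.hom_ext
      refine DFunLike.ext _ _ fun r => ?_
      have h0 := e' (Pi.single j r)
      rwa [Pi.single_eq_same] at h0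
    rfl
  · have h0 := e' (Pi.single j 1)
    rw [Pi.single_eq_same, Pi.single_eq_of_ne (Ne.symm hjk), map_one, map_zero] at h0
    haveI : Subsingleton (D : Type u) := subsingleton_of_zero_eq_one h0.symm
    haveI : IsEmpty ((specOver a).obj (op D)).left := inferInstanceAs (IsEmpty (PrimeSpectrum (D : Type u)))
    refine ab_eq_of_locally F (T := ⊥) ?_ _ _ fun V v hv => False.elim hv
    rw [GrothendieckTopology.mem_over_iff, OrderIso.map_bot]
    have hb := Precoverage.generate_mem_toGrothendieck (J := Scheme.precoverage P)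
      (Scheme.bot_mem_precoverage P ((specOver a).obj (op D)).left)
    rwa [Sieve.generate_bot] at hb

/-- Epimorphisms with good kernel are surjective on affine objects. -/
theorem ab_surjective_base (hflat : ∀ {X Y : Scheme.{u}} (f : X ⟶ Y), P f → Flat f)
    {T : ShortComplex (BigSite.Ab (Scheme.precoverage P) S)} (hT : T.ShortExact) (h₁ : GoodSheaf T.X₁)
    {R : CommRingCat.{u}} (a : Spec R ⟶ S) :
    Function.Surjective (T.g.hom.app (op (baseObj a))) := by
  haveI := hT.mono_f
  haveI := hT.epi_g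
  intro s
  haveI : Sheaf.IsLocallySurjective T.g := (Sheaf.isLocallySurjective_iff_epi' (φ := T.g)).2 inferInstance
  obtain ⟨n, R', i1, i2, hff, hmem, hcov⟩ := exists_refine_base hflat a _
    (Presheaf.imageSieve_mem (QuotSh.J (Scheme.precoverage P) S) T.g.hom (U := op (baseObj a)) s)
  choose w hw using hmem
  let A : Type u := ∀ j, R' j
  let G : Over S → BigSite.Ab (Scheme.precoverage P) S ⥤ AddCommGrpCat.{u + 1} := fun V =>
    sheafToPresheaf _ _ ⋙ (evaluation _ _).obj (op V)
  have hinj : ∀ V : Over S, Function.Injective (T.f.hom.app (op V)) := fun V =>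
    (AddCommGrpCat.mono_iff_injective _).1 (inferInstanceAs (Mono ((G V).map T.f)))
  have hker : ∀ (V : Over S) (x : T.X₂.obj.obj (op V)), T.g.hom.app (op V) x = 0 →
      ∃ e, T.f.hom.app (op V) e = x := fun V =>
    (ShortComplex.ab_exact_iff _).1 (hT.exact.map_of_mono_of_preservesKernel (G V) inferInstance inferInstance)
  obtain ⟨hPJ, hP⟩ := ab_glue_prod (P := P) a R'
  obtain ⟨z, hz⟩ := hP T.X₂ w
  let e0 : ∀ i, nerveObj a A i ⟶ baseObj a := fun i => (specOver a).map (ofIdHom (amAlg (R := R) A i)).op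
  have hbase : ∀ {B : Alg R} (g g' : algOf R R ⟶ B) (x : T.X₃.obj.obj (op (baseObj a))),
      T.X₃.obj.map ((specOver a).map g.op).op x = T.X₃.obj.map ((specOver a).map g'.op).op x := fun g g' x => by
    rw [hom_ext_ofId g g']
  have hcomp : ∀ {B B' : Alg R} (g : B ⟶ B') {Q : BigSite.Ab (Scheme.precoverage P) S} {B₀ : Alg R} (g₀ : B₀ ⟶ B)
      (x : Q.obj.obj (op ((specOver a).obj (op B₀)))),
      Q.obj.map ((specOver a).map g.op).op (Q.obj.map ((specOver a).map g₀.op).op x) =
        Q.obj.map ((specOver a).map (g₀ ≫ g).op).op x := fun g Q B₀ g₀ x => by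
    rw [op_comp, Functor.map_comp, op_comp, Functor.map_comp]
    rfl
  have hgz : T.g.hom.app _ z = T.X₃.obj.map ((specOver a).map (ofIdHom (algOf R A)).op).op s := by
    refine ab_eq_of_cover T.X₃ _ _ hPJ _ _ fun j => ?_
    rw [hcomp, ← NatTrans.naturality_apply, hz]
    exact (hw j).trans (hbase _ _ s)
  let z' : T.X₂.obj.obj (op (nerveObj a A 0)) := T.X₂.obj.map ((specOver a).map (toAm0 (R := R) A).op).op z
  have hgz' : T.g.hom.app _ z' = T.X₃.obj.map (e0 0).op s := by
    rw [NatTrans.naturality_apply, hgz, hcomp]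
    exact hbase _ _ s
  obtain ⟨e, he⟩ := hker _ (nerveD a A T.X₂.obj 0 z') (by
    rw [nerveD_natural, hgz', nerveD_apply, Fin.sum_univ_two, Fin.val_zero, pow_zero, one_smul, Fin.val_one,
      pow_one, neg_smul, one_smul, face_eq, face_eq, hcomp, hcomp, hbase]
    exact add_neg_cancel _)
  obtain ⟨α, hα⟩ := h₁ R a A hff 0 e (hinj _ (by rw [nerveD_natural, he, nerveD_nerveD, map_zero]))
  let v : T.X₂.obj.obj (op (nerveObj a A 0)) := z' - T.f.hom.app _ α
  have hv : nerveD a A T.X₂.obj 0 v = 0 := by rw [map_sub, ← nerveD_natural, hα, he, sub_self]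
  have hgv : T.g.hom.app _ v = T.X₃.obj.map (e0 0).op s := by
    have h0 : T.g.hom.app _ (T.f.hom.app _ α) = 0 :=
      ConcreteCategory.congr_hom (congrArg (fun χ : T.X₁ ⟶ T.X₃ => χ.hom.app (op (nerveObj a A 0))) T.zero) α
    rw [map_sub, h0, sub_zero, hgz']
  have hpair : ∀ (D : Alg R) (u₁ u₂ : amAlg (R := R) A 0 ⟶ D),
      T.X₂.obj.map ((specOver a).map u₁.op).op v = T.X₂.obj.map ((specOver a).map u₂.op).op v := by
    intro D u₁ u₂
    let u : Fin 2 → (amAlg (R := R) A 0 ⟶ D) := ![u₁, u₂]
    obtain ⟨m, hm, -⟩ := exists_nerve_lift a A (k := 1) (Spec.map (CommRingCat.ofHom (algebraMap R (D : Type u))))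
      rfl (fun i => (specOver a).map (ιAlg (R := R) A 0 0 ≫ u i).op) (fun i => by
        exact (Spec.map_comp (CommRingCat.ofHom (algebraMap R (algOf R A : Alg R)))
          (CommRingCat.ofHom (ιAlg (R := R) A 0 0 ≫ u i).hom.toRingHom)).symm.trans
          (congrArg (fun φ => Spec.map (CommRingCat.ofHom φ)) (ιAlg (R := R) A 0 0 ≫ u i).hom.comp_algebraMap))
    have hmu : ∀ i : Fin 2, m ≫ face a A 0 i = (specOver a).map (u (i.succAbove 0)).op := fun i =>
      nerve_ext a A fun j => by
        obtain rfl : j = 0 := Fin.fin_one_eq_zero j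
        rw [Category.assoc, nerveMap_pr, hm]
        exact Functor.map_comp _ _ _
    have hd : T.X₂.obj.map (face a A 0 0).op v = T.X₂.obj.map (face a A 0 1).op v := by
      rw [nerveD_apply, Fin.sum_univ_two] at hv
      simpa [← sub_eq_add_neg, sub_eq_zero] using hv
    have h := congrArg (T.X₂.obj.map m.op) hd
    rw [← ConcreteCategory.comp_apply, ← ConcreteCategory.comp_apply, ← Functor.map_comp, ← Functor.map_comp,
      ← op_comp, ← op_comp, hmu, hmu] at h
    exact h.symm
  have hJ : Sieve.ofArrows (fun j => (specOver a).obj (op (algOf R (R' j))))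
      (fun j => (specOver a).map (ofIdHom (algOf R (R' j))).op) ∈
        QuotSh.J (Scheme.precoverage P) S ((specOver a).obj (op (algOf R R))) := hcov
  obtain ⟨t, ht⟩ := ab_glue_of_cover a T.X₂ _ _ hJ
    (fun j => T.X₂.obj.map ((specOver a).map (ofAm0 A ≫ projHom R' j).op).op v) fun j k D g h _ => by
      rw [hcomp, hcomp]
      exact hpair D _ _
  refine ⟨t, ab_eq_of_cover T.X₃ _ _ hJ _ _ fun j => ?_⟩
  rw [← NatTrans.naturality_apply, ht, NatTrans.naturality_apply, hgv, hcomp]
  exact hbase _ _ s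

/-- Surjectivity at every object of an algebra. -/
theorem ab_surjective_specOver (hflat : ∀ {X Y : Scheme.{u}} (f : X ⟶ Y), P f → Flat f)
    {T : ShortComplex (BigSite.Ab (Scheme.precoverage P) S)} (hT : T.ShortExact) (h₁ : GoodSheaf T.X₁)
    {R : CommRingCat.{u}} (a : Spec R ⟶ S) {V : Over S} (i : baseObj a ≅ V) :
    Function.Surjective (T.g.hom.app (op V)) := fun y => by
  obtain ⟨x, hx⟩ := ab_surjective_base hflat hT h₁ a (T.X₃.obj.map i.hom.op y)
  refine ⟨T.X₂.obj.map i.inv.op x, ?_⟩
  rw [NatTrans.naturality_apply, hx, ← ConcreteCategory.comp_apply, ← Functor.map_comp, ← op_comp, Iso.inv_hom_id,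
    op_id]
  exact ConcreteCategory.congr_hom (T.X₃.obj.map_id _) y

/-- The quotient of a good sheaf by a good sheaf is good. -/
theorem goodSheaf_quotient (hflat : ∀ {X Y : Scheme.{u}} (f : X ⟶ Y), P f → Flat f)
    {T : ShortComplex (BigSite.Ab (Scheme.precoverage P) S)} (hT : T.ShortExact) (h₁ : GoodSheaf T.X₁)
    (h₂ : GoodSheaf T.X₂) : GoodSheaf T.X₃ := by
  intro R a A _ _ hff k q hq
  haveI := hT.mono_f
  let G : Over S → BigSite.Ab (Scheme.precoverage P) S ⥤ AddCommGrpCat.{u + 1} := fun V =>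
    sheafToPresheaf _ _ ⋙ (evaluation _ _).obj (op V)
  obtain ⟨w, hw⟩ := ab_surjective_specOver hflat hT h₁ _ (baseObjIso a (amAlg (R := R) A (k + 1))) q
  obtain ⟨e, he⟩ := (ShortComplex.ab_exact_iff _).1
    (hT.exact.map_of_mono_of_preservesKernel (G (nerveObj a A (k + 2))) inferInstance inferInstance)
    (nerveD a A T.X₂.obj (k + 1) w) (by
      change T.g.hom.app _ (nerveD a A T.X₂.obj (k + 1) w) = 0
      rw [nerveD_natural, hw, hq])
  change T.f.hom.app _ e = nerveD a A T.X₂.obj (k + 1) w at he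
  obtain ⟨α, hα⟩ := h₁ R a A hff (k + 1) e
    ((AddCommGrpCat.mono_iff_injective _).1 (inferInstanceAs (Mono ((G (nerveObj a A (k + 3))).map T.f)))
      (show T.f.hom.app _ (nerveD a A T.X₁.obj (k + 2) e) = T.f.hom.app _ 0 by
        rw [nerveD_natural, he, nerveD_nerveD, map_zero]))
  obtain ⟨β, hβ⟩ := h₂ R a A hff k (w - T.f.hom.app _ α) (by
    rw [map_sub, ← nerveD_natural, hα, he, sub_self])
  refine ⟨T.g.hom.app _ β, ?_⟩
  have h0 : T.g.hom.app _ (T.f.hom.app _ α) = 0 :=
    ConcreteCategory.congr_hom (congrArg (fun χ : T.X₁ ⟶ T.X₃ => χ.hom.app (op (nerveObj a A (k + 1)))) T.zero) α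
  rw [← nerveD_natural, hβ, map_sub, hw, h0, sub_zero]

/-- The terminal object of an affine site is a base object. -/
noncomputable def terminalIso [IsAffine S] : baseObj (R := Γ(S, ⊤)) S.isoSpec.inv ≅ Over.mk (𝟙 S) :=
  Over.isoMk S.isoSpec.symm (by
    change S.isoSpec.inv ≫ 𝟙 S = Spec.map (CommRingCat.ofHom (algebraMap Γ(S, ⊤) Γ(S, ⊤))) ≫ S.isoSpec.inv
    rw [show CommRingCat.ofHom (algebraMap Γ(S, ⊤) Γ(S, ⊤)) = 𝟙 Γ(S, ⊤) from
      CommRingCat.hom_ext (RingHom.ext fun _ => rfl), Category.comp_id]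
    erw [Spec.map_id, Category.id_comp])

/-- Cartan's criterion. -/
theorem subsingleton_H_of_good (hflat : ∀ {X Y : Scheme.{u}} (f : X ⟶ Y), P f → Flat f) [IsAffine S] (p : ℕ) :
    ∀ F : BigSite.Ab (Scheme.precoverage P) S, GoodSheaf F →
      Subsingleton (BigSite.H (Scheme.precoverage P) S F (p + 1)) := by
  induction p with
  | zero =>
    intro F hF
    let T := ShortComplex.mk (Injective.ι F) (cokernel.π (Injective.ι F)) (cokernel.condition _)
    have hT : T.ShortExact :=
      { exact := ShortComplex.exact_of_g_is_cokernel _ (cokernelIsCokernel _) }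
    refine subsingleton_of_forall_eq 0 fun z => ?_
    obtain ⟨v, rfl⟩ := Ext.covariant_sequence_exact₁ _ hT z
      (Ext.eq_zero_of_injective (n := 0) _) rfl
    obtain ⟨t, ht⟩ := ab_surjective_specOver hflat hT hF _ terminalIso
      (Sheaf.H.equiv₀ T.X₃ Over.mkIdTerminal v)
    obtain ⟨l, rfl⟩ := (Sheaf.H.equiv₀ T.X₂ Over.mkIdTerminal).surjective t
    have hv : v = l.comp (Ext.mk₀ T.g) (add_zero 0) := by
      apply (Sheaf.H.equiv₀ T.X₃ Over.mkIdTerminal).injective
      rw [← ht]
      exact Sheaf.H.equiv₀_naturality (Over.mkIdTerminal (X := S)) T.g l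
    rw [hv, Ext.comp_assoc_of_second_deg_zero, ShortComplex.ShortExact.comp_extClass, Ext.comp_zero]
  | succ p ih =>
    intro F hF
    let T := ShortComplex.mk (Injective.ι F) (cokernel.π (Injective.ι F)) (cokernel.condition _)
    have hT : T.ShortExact :=
      { exact := ShortComplex.exact_of_g_is_cokernel _ (cokernelIsCokernel _) }
    haveI := ih T.X₃ (goodSheaf_quotient hflat hT hF fun R a A _ _ _ => nerveExact_of_injective_sheaf a A _)
    refine subsingleton_of_forall_eq 0 fun z => ?_
    obtain ⟨v, rfl⟩ := Ext.covariant_sequence_exact₁ _ hT z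
      (Ext.eq_zero_of_injective (n := p + 1) _) rfl
    rw [Subsingleton.elim v 0, Ext.zero_comp]

end Groth.Agent.H02CA.Adq
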