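import Groth.Agent.H02CA.Adeq.Big.Affine
import Mathlib.CategoryTheory.Sites.SheafCohomology.Cech
import Mathlib.Algebra.Homology.ShortComplex.Ab

/-!
# The Čech complex of a covering map of affine schemes
-/

set_option autoImplicit false
set_option linter.style.haveILetI false

universe u

open CategoryTheory Opposite Limits TensorProduct AlgebraicGeometry MorphismProperty

namespace Groth.Agent.H02CA.Adq

open Adeq
open Groth.Agent.H13Desc

variable (R : CommRingCat.{u}) (B : Type u) [CommRing B] [Algebra R B]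

/-- The affine scheme of an algebra over the base. -/
noncomputable abbrev overSpec : Over (Spec R) := Over.mk (Spec.map (CommRingCat.ofHom (algebraMap R B)))

/-- The spectrum of an iterated tensor power. -/
noncomputable abbrev amObj (n : ℕ) : Over (Spec R) :=
  Over.mk (Spec.map (CommRingCat.ofHom (algebraMap R (Amitsur.Y R B n))))

/-- The projections. -/
noncomputable def amProj (n : ℕ) (j : Fin (n + 1)) : amObj R B n ⟶ overSpec R B :=
  Over.homMk (Spec.map (Amitsur.ι R B n j)) (by
    change Spec.map _ ≫ Spec.map _ = Spec.map _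
    rw [← Spec.map_comp]
    exact congrArg Spec.map (CommRingCat.hom_ext (RingHom.ext (Amitsur.ι_algebraMap R B n j))))

/-- The fan of projections. -/
noncomputable abbrev amFan (n : ℕ) : Fan (fun _ : Fin (n + 1) => overSpec R B) :=
  Fan.mk (amObj R B n) (amProj R B n)

/-- Spectra of tensor powers are products. -/
noncomputable def amFanLimit (n : ℕ) : IsLimit (amFan R B n) := by
  have hg : ∀ (Z : Over (Spec R)) (s : ∀ _ : Fin (n + 1), Z ⟶ overSpec R B) (j : Fin (n + 1)),
      CommRingCat.ofHom (algebraMap R B) ≫ gam (s j).left = gam Z.hom := fun Z s j => by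
    rw [← gam_comp]
    exact congrArg gam (Over.w (s j))
  refine Fan.IsLimit.mk _
    (fun s => Over.homMk (s.pt.left.toSpecΓ ≫ Spec.map (WidePushout.desc (gam s.pt.hom)
      (fun j => gam (s.proj j).left) (hg s.pt s.proj))) ?_) (fun s j => ?_) (fun s m hm => ?_)
  · change (_ ≫ _) ≫ Spec.map _ = _
    rw [Category.assoc, ← Spec.map_comp]
    refine Eq.trans ?_ (toSpecΓ_gam s.pt.hom)
    refine congrArg (fun φ => s.pt.left.toSpecΓ ≫ Spec.map φ) ?_
    exact WidePushout.head_desc _ _ _ _
  · apply Over.OverMorphism.ext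
    change (_ ≫ _) ≫ Spec.map _ = _
    rw [Category.assoc, ← Spec.map_comp]
    refine Eq.trans ?_ (toSpecΓ_gam (s.proj j).left)
    refine congrArg (fun φ => s.pt.left.toSpecΓ ≫ Spec.map φ) ?_
    exact WidePushout.ι_desc _ _ _ _ j
  · apply Over.OverMorphism.ext
    change m.left = _
    refine (toSpecΓ_gam m.left).symm.trans ?_
    refine congrArg (fun φ => s.pt.left.toSpecΓ ≫ Spec.map φ) ?_
    refine WidePushout.hom_ext _ _ _ (fun j => ?_) ?_
    · symm
      refine (WidePushout.ι_desc _ _ _ _ j).trans ?_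
      symm
      refine (gam_comp m.left (Amitsur.ι R B n j)).symm.trans (congrArg gam ?_)
      exact congrArg CommaMorphism.left (hm j)
    · symm
      refine (WidePushout.head_desc _ _ _ _).trans ?_
      symm
      refine (gam_comp m.left (CommRingCat.ofHom (algebraMap R (Amitsur.Y R B n)))).symm.trans (congrArg gam ?_)
      exact Over.w m

variable {P : MorphismProperty Scheme.{u}} [GoodCov P] [BigSite.OSh (Scheme.precoverage P)] {S : Scheme.{u}}

/-- The Čech complex of a faithfully flat map is exact in positive degrees. -/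
theorem cech_exactAt (M : BigSite.Mod (Scheme.precoverage P) S)
    (hM : adequateMod (Scheme.precoverage P) S M) (a : Spec R ⟶ S) [Module.FaithfullyFlat R B]
    (n : ℕ) (hn : 0 < n) :
    ((cechComplexFunctor (A := AddCommGrpCat.{u + 1}) (fun _ : PUnit.{u + 2} => overSpec R B)).obj
      ((Over.map a).op ⋙ ((BigSite.toAbMod (Scheme.precoverage P) S).obj M).obj)).ExactAt n := by
  obtain ⟨m, rfl⟩ := Nat.exists_eq_add_one_of_ne_zero hn.ne'
  let F : MVF R := (toMVF (Scheme.precoverage P) a).obj M
  let G : (Over (Spec R))ᵒᵖ ⥤ AddCommGrpCat.{u + 1} :=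
    (Over.map a).op ⋙ ((BigSite.toAbMod (Scheme.precoverage P) S).obj M).obj
  let E := (FormalCoproduct.mk _ (fun _ : PUnit.{u + 2} => overSpec R B)).cech
  let X : CosimplicialObject AddCommGrpCat.{u + 1} := (FormalCoproduct.cosimplicialObjectFunctor E).obj G
  let i₀ : ∀ k : ℕ, Fin (k + 1) → PUnit.{u + 2} := fun k _ => PUnit.unit
  let ψ : ∀ k : ℕ, amObj R B k ≅ ∏ᶜ fun _ : Fin (k + 1) => overSpec R B := fun k =>
    (amFanLimit R B k).conePointUniqueUpToIso (productIsProduct _)
  let κ : ∀ k : ℕ, (specOver a).obj (op (amAlg (R := R) B k)) ≅ (Over.map a).obj (amObj R B k) := fun k =>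
    Over.isoMk (Iso.refl _) (Category.id_comp _)
  let L : ∀ k : ℕ, X.obj (SimplexCategory.mk k) →+ F.obj (pt (amAlg (R := R) B k)) := fun k =>
    ((sectOf a M.val (amAlg (R := R) B k)).symm.toAddMonoidHom.comp
      (tr M.val ((κ k).hom ≫ (Over.map a).map (ψ k).hom))).comp
        (Pi.π (fun i : Fin (k + 1) → PUnit.{u + 2} => G.obj (op (∏ᶜ fun _ : Fin (k + 1) => overSpec R B)))
          (i₀ k)).hom
  have hL : ∀ k, Function.Bijective (L k) := fun k => by
    refine (((sectOf a M.val (amAlg (R := R) B k)).symm.bijective.comp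
      (tr_iso_bijective M.val (κ k ≪≫ (Over.map a).mapIso (ψ k)))).comp ?_)
    haveI : IsIso (Pi.π (fun i : Fin (k + 1) → PUnit.{u + 2} => G.obj (op (∏ᶜ fun _ : Fin (k + 1) => overSpec R B)))
        (i₀ k)) := by
      refine ⟨Pi.lift fun _ => 𝟙 _, Pi.hom_ext _ _ fun i => ?_, by simp⟩
      obtain rfl : i = i₀ k := rfl
      simp
    exact ConcreteCategory.bijective_of_isIso (Pi.π (fun i : Fin (k + 1) → PUnit.{u + 2} =>
      G.obj (op (∏ᶜ fun _ : Fin (k + 1) => overSpec R B))) (i₀ k))
  have hδ : ∀ (k : ℕ) (i : Fin (k + 2)) (x : X.obj (SimplexCategory.mk k)),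
      L (k + 1) (X.δ i x) = mp F (amδ B k i) (L k x) := by
    intro k i x
    let q : (∏ᶜ fun _ : Fin (k + 1 + 1) => overSpec R B) ⟶ ∏ᶜ fun _ : Fin (k + 1) => overSpec R B :=
      Pi.lift fun j => Pi.π _ (i.succAbove j)
    have hq : Pi.π (fun i : Fin (k + 1 + 1) → PUnit.{u + 2} => G.obj (op (∏ᶜ fun _ : Fin (k + 1 + 1) => overSpec R B)))
        (i₀ (k + 1)) (X.δ i x) =
        G.map q.op (Pi.π (fun i : Fin (k + 1) → PUnit.{u + 2} => G.obj (op (∏ᶜ fun _ : Fin (k + 1) => overSpec R B)))
          (i₀ k) x) :=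
      ConcreteCategory.congr_hom (Pi.lift_π _ (i₀ (k + 1))) x
    apply (sectOf a M.val (amAlg (R := R) B (k + 1))).injective
    refine Eq.trans ?_ (sectOf_mp a M.val (amδ B k i) (L k x)).symm
    refine (congrArg (tr M.val ((κ (k + 1)).hom ≫ (Over.map a).map (ψ (k + 1)).hom)) hq).trans ?_
    change tr M.val _ (tr M.val ((Over.map a).map q) _) = _
    rw [tr_comp]
    refine Eq.trans ?_ (tr_comp M.val ((specOver a).map (amδ B k i).op)
      ((κ k).hom ≫ (Over.map a).map (ψ k).hom) _).symm
    refine congrArg (fun e => tr M.val e _) ?_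
    have hsq : (ψ (k + 1)).hom ≫ q =
        (Over.homMk (Spec.map (CommRingCat.ofHom (Amitsur.δ R B k i).toRingHom)) (by
          change Spec.map _ ≫ Spec.map _ = Spec.map _
          rw [← Spec.map_comp]
          exact congrArg Spec.map (CommRingCat.hom_ext (RingHom.ext (Amitsur.δ R B k i).commutes))) :
          amObj R B (k + 1) ⟶ amObj R B k) ≫ (ψ k).hom := by
      refine Pi.hom_ext _ _ fun j => ?_
      rw [Category.assoc, Category.assoc, Pi.lift_π]
      erw [IsLimit.conePointUniqueUpToIso_hom_comp, IsLimit.conePointUniqueUpToIso_hom_comp]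
      apply Over.OverMorphism.ext
      change Spec.map _ = Spec.map _ ≫ Spec.map _
      rw [← Spec.map_comp]
      refine congrArg Spec.map (CommRingCat.hom_ext (RingHom.ext fun b => ?_))
      exact (Amitsur.δ_ι R B k i j b).symm
    rw [Category.assoc, ← Functor.map_comp, hsq, Functor.map_comp, ← Category.assoc, ← Category.assoc]
    refine congrArg (· ≫ _) ?_
    apply Over.OverMorphism.ext
    exact (Category.id_comp _).trans (Category.comp_id _).symm
  have hd : ∀ (k : ℕ) (x : X.obj (SimplexCategory.mk k)),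
      L (k + 1) (AlgebraicTopology.AlternatingCofaceMapComplex.objD X k x) = amD B F k (L k x) := by
    intro k x
    rw [amD_apply, AlgebraicTopology.AlternatingCofaceMapComplex.objD]
    erw [Amitsur.hom_sum_apply.{u + 1}]
    rw [map_sum]
    refine Finset.sum_congr rfl fun i _ => ?_
    rw [← hδ k i x]
    exact map_zsmul (L (k + 1)) ((-1 : ℤ) ^ (i : ℕ)) (X.δ i x)
  change (AlgebraicTopology.AlternatingCofaceMapComplex.obj X).ExactAt (m + 1)
  rw [HomologicalComplex.exactAt_iff' _ m (m + 1) (m + 2) (by simp) (by simp), ShortComplex.ab_exact_iff]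
  intro x hx
  simp only [AlgebraicTopology.AlternatingCofaceMapComplex.obj, HomologicalComplex.shortComplexFunctor'_obj_g,
    HomologicalComplex.shortComplexFunctor'_obj_f, CochainComplex.of_d] at hx ⊢
  erw [CochainComplex.of_d] at hx
  have hx' : amD B F (m + 1) (L (m + 1) x) = 0 := by
    rw [← hd]
    exact (congrArg (L (m + 2)) hx).trans (map_zero _)
  obtain ⟨w, hw⟩ := (exact_d B (allAdeq_of_adequateMod hM R a) m _).1 hx'
  obtain ⟨y, rfl⟩ := (hL m).2 w
  exact ⟨y, (hL (m + 1)).1 ((hd m y).trans hw)⟩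

end Groth.Agent.H02CA.Adq
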