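import Groth.Agent.H02CA.Adeq.Big.Glue
import Mathlib.Algebra.Category.ModuleCat.Presheaf.Abelian

/-!
# Comparing the functors of a module at different affine objects
-/

set_option autoImplicit false
set_option linter.style.haveILetI false

universe u

open CategoryTheory Opposite Limits TensorProduct AlgebraicGeometry

namespace Groth.Agent.H02CA.Adq

open Adeq

variable {K : Precoverage Scheme.{u}} [BigSite.OSh K] {S : Scheme.{u}}

/-- Two presentations of one object over a base. -/
def overIso {X : Scheme.{u}} (f g : X ⟶ S) (e : f = g) : Over.mk f ≅ Over.mk g :=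
  Over.isoMk (Iso.refl X) (by subst e; exact Category.id_comp f)

lemma overIso_left {X : Scheme.{u}} (f g : X ⟶ S) (e : f = g) : (overIso f g e).hom.left = 𝟙 X := rfl

/-- Restriction maps of a presheaf of modules as additive maps. -/
noncomputable def tr (P : PresheafOfModules.{u + 1} (BigSite.ORing K S).obj) {X Y : Over S} (e : X ⟶ Y) :
    P.obj (op Y) →+ P.obj (op X) :=
  (P.map e.op).hom.toAddMonoidHom

lemma tr_comp (P : PresheafOfModules.{u + 1} (BigSite.ORing K S).obj) {X Y Z : Over S} (e : X ⟶ Y) (e' : Y ⟶ Z)
    (z : P.obj (op Z)) : tr P e (tr P e' z) = tr P (e ≫ e') z :=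
  (PresheafOfModules.map_comp_apply P e'.op e.op z).symm

lemma tr_smul (P : PresheafOfModules.{u + 1} (BigSite.ORing K S).obj) {X Y : Over S} (e : X ⟶ Y)
    (r : (BigSite.ORing K S).obj.obj (op Y)) (z : P.obj (op Y)) :
    tr P e (r • z) = (BigSite.ORing K S).obj.map e.op r • tr P e z :=
  P.map_smul e.op r z

section Restr

variable (R : CommRingCat.{u}) (R' : Type u) [CommRing R'] [Algebra R R'] (a : Spec R ⟶ S)

/-- The structure map of an algebra as a morphism of spectra. -/
noncomputable abbrev algMap' : Spec (CommRingCat.of R') ⟶ Spec R :=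
  Spec.map (CommRingCat.ofHom (algebraMap R R'))

lemma algebraMap_restr (B : Alg R') :
    (algebraMap R' (B : Type u)).comp (algebraMap R R') =
      algebraMap R (((Adeq.Alg.restr R R').obj B : Alg R) : Type u) := rfl

lemma restrObj_aux (B : Alg R') :
    Spec.map (CommRingCat.ofHom (algebraMap R' (B : Type u))) ≫ algMap' R R' ≫ a =
      Spec.map (CommRingCat.ofHom (algebraMap R (((Adeq.Alg.restr R R').obj B : Alg R) : Type u))) ≫ a := by
  rw [← Category.assoc, ← Spec.map_comp, ← CommRingCat.ofHom_comp]

/-- The comparison of objects under restriction. -/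
noncomputable def restrObj (B : Alg R') :
    (specOver (R := CommRingCat.of R') (algMap' R R' ≫ a)).obj (op B) ≅
      (specOver a).obj (op ((Adeq.Alg.restr R R').obj B)) :=
  overIso _ _ (restrObj_aux R R' a B)

/-- Values as sections. -/
noncomputable def sectOf {R₀ : CommRingCat.{u}} (a₀ : Spec R₀ ⟶ S) (P : PresheafOfModules.{u + 1} (BigSite.ORing K S).obj) (B : Alg R₀) :
    (FModPre K a₀ P).obj (pt B) ≃+ P.obj (op ((specOver a₀).obj (op B))) where
  toFun x := x
  invFun x := x
  left_inv _ := rfl
  right_inv _ := rfl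
  map_add' _ _ := rfl

/-- Values of a restriction. -/
noncomputable def valIn {C C' : Type u} [CommRing C] [CommRing C'] [Algebra C C'] (F : MVF C) (B : Alg C') :
    ((Adeq.restr C C').obj F).obj (pt B) ≃+ F.obj (pt ((Adeq.Alg.restr C C').obj B)) where
  toFun x := x
  invFun x := x
  left_inv _ := rfl
  right_inv _ := rfl
  map_add' _ _ := rfl

lemma sectOf_mp {R₀ : CommRingCat.{u}} (a₀ : Spec R₀ ⟶ S) (P : PresheafOfModules.{u + 1} (BigSite.ORing K S).obj)
    {B B' : Alg R₀} (f : B ⟶ B') (x : (FModPre K a₀ P).obj (pt B)) :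
    sectOf a₀ P B' (mp (FModPre K a₀ P) f x) = tr P ((specOver a₀).map f.op) (sectOf a₀ P B x) := rfl

lemma sectOf_smul {R₀ : CommRingCat.{u}} (a₀ : Spec R₀ ⟶ S) (P : PresheafOfModules.{u + 1} (BigSite.ORing K S).obj)
    (B : Alg R₀) (r : B) (x : (FModPre K a₀ P).obj (pt B)) :
    sectOf a₀ P B (r • x) = toSect K a₀ B r • sectOf a₀ P B x := rfl

lemma valIn_mp {C C' : Type u} [CommRing C] [CommRing C'] [Algebra C C'] (F : MVF C) {B B' : Alg C'}
    (f : B ⟶ B') (x : ((Adeq.restr C C').obj F).obj (pt B)) :
    valIn F B' (mp ((Adeq.restr C C').obj F) f x) = mp F ((Adeq.Alg.restr C C').map f) (valIn F B x) := rfl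

lemma valIn_smul {C C' : Type u} [CommRing C] [CommRing C'] [Algebra C C'] (F : MVF C) (B : Alg C')
    (r : B) (x : ((Adeq.restr C C').obj F).obj (pt B)) :
    valIn F B (r • x) = (show (((Adeq.Alg.restr C C').obj B : Alg C) : Type u) from r) • valIn F B x := rfl

lemma specOver_map_left {R₀ : CommRingCat.{u}} (a₀ : Spec R₀ ⟶ S) {B B' : Alg R₀} (f : B ⟶ B') :
    ((specOver a₀).map f.op).left = Spec.map (CommRingCat.ofHom f.hom.toRingHom) := rfl

lemma restr_map_toRingHom {C C' : Type u} [CommRing C] [CommRing C'] [Algebra C C'] {B B' : Alg C'} (f : B ⟶ B') :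
    ((Adeq.Alg.restr C C').map f).hom.toRingHom = f.hom.toRingHom := rfl

/-- The values under restriction. -/
noncomputable def restrApp (P : PresheafOfModules.{u + 1} (BigSite.ORing K S).obj) (B : Alg R') :
    ((Adeq.restr R R').obj (FModPre K a P)).obj (pt B) →+
      (FModPre (R := CommRingCat.of R') K (algMap' R R' ≫ a) P).obj (pt B) :=
  ((sectOf (algMap' R R' ≫ a) P B).symm.toAddMonoidHom.comp (tr P (restrObj R R' a B).hom)).comp
    ((sectOf a P _).toAddMonoidHom.comp (valIn (FModPre K a P) B).toAddMonoidHom)

lemma sectOf_restrApp (P : PresheafOfModules.{u + 1} (BigSite.ORing K S).obj) (B : Alg R')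
    (z : ((Adeq.restr R R').obj (FModPre K a P)).obj (pt B)) :
    sectOf (algMap' R R' ≫ a) P B (restrApp R R' a P B z) =
      tr P (restrObj R R' a B).hom (sectOf a P _ (valIn (FModPre K a P) B z)) := rfl

lemma restrApp_natural (P : PresheafOfModules.{u + 1} (BigSite.ORing K S).obj) {B B' : Alg R'} (f : B ⟶ B')
    (z : ((Adeq.restr R R').obj (FModPre K a P)).obj (pt B)) :
    restrApp R R' a P B' (mp ((Adeq.restr R R').obj (FModPre K a P)) f z) =
      mp (FModPre (R := CommRingCat.of R') K (algMap' R R' ≫ a) P) f (restrApp R R' a P B z) := by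
  apply (sectOf (algMap' R R' ≫ a) P B').injective
  rw [sectOf_mp, sectOf_restrApp, sectOf_restrApp, valIn_mp, sectOf_mp, tr_comp, tr_comp]
  refine congrArg (fun e => tr P e (sectOf a P _ (valIn (FModPre K a P) B z))) ?_
  apply Over.OverMorphism.ext
  rw [Over.comp_left, Over.comp_left, specOver_map_left, specOver_map_left]
  erw [overIso_left, overIso_left, Category.id_comp]

/-- Sections of the structure sheaf under the comparison. -/
lemma toSect_restrObj (B : Alg R') (r : B) :
    (BigSite.ORing K S).obj.map (restrObj R R' a B).hom.op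
        (toSect K a ((Adeq.Alg.restr R R').obj B) (show (((Adeq.Alg.restr R R').obj B : Alg R) : Type u) from r)) =
      toSect (R := CommRingCat.of R') K (algMap' R R' ≫ a) B r := by
  apply ULift.ext
  change (restrObj R R' a B).hom.left.appTop _ = _
  erw [overIso_left, Scheme.Hom.id_appTop]
  rfl

lemma restrApp_smul (P : PresheafOfModules.{u + 1} (BigSite.ORing K S).obj) (B : Alg R') (r : B)
    (z : ((Adeq.restr R R').obj (FModPre K a P)).obj (pt B)) :
    restrApp R R' a P B (r • z) =
      (r • restrApp R R' a P B z : (FModPre (R := CommRingCat.of R') K (algMap' R R' ≫ a) P).obj (pt B)) := by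
  apply (sectOf (algMap' R R' ≫ a) P B).injective
  rw [sectOf_smul, sectOf_restrApp, sectOf_restrApp, valIn_smul, sectOf_smul, tr_smul, toSect_restrObj]

/-- The functor at an affine object over another one. -/
noncomputable def restrToMVF (P : PresheafOfModules.{u + 1} (BigSite.ORing K S).obj) :
    (Adeq.restr R R').obj (FModPre K a P) ⟶ FModPre (R := CommRingCat.of R') K (algMap' R R' ≫ a) P :=
  PresheafOfModules.homMk
    { app := fun X => AddCommGrpCat.ofHom (restrApp R R' a P X.unop.unop)
      naturality := fun {X Y} f => by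
        ext z
        exact restrApp_natural R R' a P f.unop.unop z }
    (fun X r z => restrApp_smul R R' a P X.unop.unop r z)

lemma isIso_restrToMVF (P : PresheafOfModules.{u + 1} (BigSite.ORing K S).obj) :
    IsIso (restrToMVF R R' a P) := by
  refine isIso_of_bijective _ fun B => ?_
  haveI : IsIso (P.presheaf.map (restrObj R R' a B).hom.op) := inferInstance
  have h : Function.Bijective (tr P (restrObj R R' a B).hom) :=
    ConcreteCategory.bijective_of_isIso (P.presheaf.map (restrObj R R' a B).hom.op)
  exact ((sectOf (algMap' R R' ≫ a) P B).symm.bijective.comp h).comp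
    ((sectOf a P _).bijective.comp (valIn (FModPre K a P) B).bijective)

/-- Adequacy at an affine object passes to the affine objects over it. -/
theorem adequate_toMVFPre_comp (P : PresheafOfModules.{u + 1} (BigSite.ORing K S).obj)
    (h : adequate R (FModPre K a P)) :
    adequate R' (FModPre (R := CommRingCat.of R') K (algMap' R R' ≫ a) P) := by
  haveI := isIso_restrToMVF R R' a P
  exact (adequate R').prop_of_iso (asIso (restrToMVF R R' a P)) (adequate_restr' R R' h)

/-- Restriction of the functor at an affine object. -/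
theorem adequate_restr_toMVFPre (P : PresheafOfModules.{u + 1} (BigSite.ORing K S).obj)
    (h : adequate R' (FModPre (R := CommRingCat.of R') K (algMap' R R' ≫ a) P)) :
    adequate R' ((Adeq.restr R R').obj (FModPre K a P)) := by
  haveI := isIso_restrToMVF R R' a P
  exact (adequate R').prop_of_iso (asIso (restrToMVF R R' a P)).symm h

end Restr

/-- Adequacy at an affine object passes along any morphism of affine objects. -/
theorem adequate_toMVFPre_of_hom {R R' : CommRingCat.{u}} (a : Spec R ⟶ S) (a' : Spec R' ⟶ S)
    (t : Spec R' ⟶ Spec R) (ht : t ≫ a = a') (P : PresheafOfModules.{u + 1} (BigSite.ORing K S).obj)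
    (h : adequate R (FModPre K a P)) : adequate R' (FModPre K a' P) := by
  letI : Algebra R R' := (Spec.preimage t).hom.toAlgebra
  have e : algMap' R R' ≫ a = a' := by
    rw [← ht]
    exact congrArg (· ≫ a) (Spec.map_preimage t)
  subst e
  exact adequate_toMVFPre_comp R R' a P h

section Pull

variable {T : Scheme.{u}} (f : T ⟶ S) {R : CommRingCat.{u}} (a : Spec R ⟶ T)

lemma pullObj_aux (B : Alg R) :
    Spec.map (CommRingCat.ofHom (algebraMap R (B : Type u))) ≫ a ≫ f =
      (Spec.map (CommRingCat.ofHom (algebraMap R (B : Type u))) ≫ a) ≫ f :=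
  (Category.assoc _ _ _).symm

/-- The comparison of objects under change of base. -/
noncomputable def pullObj (B : Alg R) :
    (specOver (a ≫ f)).obj (op B) ≅ (Over.map f).obj ((specOver a).obj (op B)) :=
  overIso _ _ (pullObj_aux f a B)

/-- Sections of a pullback. -/
noncomputable def pv (M : BigSite.Mod K S) (U : Over T) :
    ((BigSite.pullMod K f).obj M).val.obj (op U) ≃+ M.val.obj (op ((Over.map f).obj U)) where
  toFun x := x
  invFun x := x
  left_inv _ := rfl
  right_inv _ := rfl
  map_add' _ _ := rfl

lemma pv_tr (M : BigSite.Mod K S) {U V : Over T} (g : U ⟶ V)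
    (x : ((BigSite.pullMod K f).obj M).val.obj (op V)) :
    pv f M U (tr ((BigSite.pullMod K f).obj M).val g x) = tr M.val ((Over.map f).map g) (pv f M V x) := rfl

lemma pv_smul (M : BigSite.Mod K S) (U : Over T) (r : (BigSite.ORing K T).obj.obj (op U))
    (x : ((BigSite.pullMod K f).obj M).val.obj (op U)) :
    pv f M U (r • x) =
      (show (BigSite.ORing K S).obj.obj (op ((Over.map f).obj U)) from r) • pv f M U x := rfl

/-- The values of a pullback. -/
noncomputable def pullApp (M : BigSite.Mod K S) (B : Alg R) :
    (FModPre K a ((BigSite.pullMod K f).obj M).val).obj (pt B) →+ (FModPre K (a ≫ f) M.val).obj (pt B) :=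
  ((sectOf (a ≫ f) M.val B).symm.toAddMonoidHom.comp (tr M.val (pullObj f a B).hom)).comp
    ((pv f M _).toAddMonoidHom.comp (sectOf a ((BigSite.pullMod K f).obj M).val B).toAddMonoidHom)

lemma sectOf_pullApp (M : BigSite.Mod K S) (B : Alg R)
    (z : (FModPre K a ((BigSite.pullMod K f).obj M).val).obj (pt B)) :
    sectOf (a ≫ f) M.val B (pullApp f a M B z) =
      tr M.val (pullObj f a B).hom (pv f M _ (sectOf a ((BigSite.pullMod K f).obj M).val B z)) := rfl

lemma pullApp_natural (M : BigSite.Mod K S) {B B' : Alg R} (g : B ⟶ B')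
    (z : (FModPre K a ((BigSite.pullMod K f).obj M).val).obj (pt B)) :
    pullApp f a M B' (mp (FModPre K a ((BigSite.pullMod K f).obj M).val) g z) =
      mp (FModPre K (a ≫ f) M.val) g (pullApp f a M B z) := by
  apply (sectOf (a ≫ f) M.val B').injective
  rw [sectOf_mp, sectOf_pullApp, sectOf_pullApp, sectOf_mp, pv_tr, tr_comp, tr_comp]
  refine congrArg (fun e => tr M.val e (pv f M _ (sectOf a ((BigSite.pullMod K f).obj M).val B z))) ?_
  apply Over.OverMorphism.ext
  rw [Over.comp_left, Over.comp_left, Over.map_map_left, specOver_map_left, specOver_map_left]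
  erw [overIso_left, overIso_left, Category.id_comp]

/-- Sections of the structure sheaf under the comparison. -/
lemma toSect_pullObj (B : Alg R) (r : B) :
    (BigSite.ORing K S).obj.map (pullObj f a B).hom.op
        (show (BigSite.ORing K S).obj.obj (op ((Over.map f).obj ((specOver a).obj (op B)))) from toSect K a B r) =
      toSect K (a ≫ f) B r := by
  apply ULift.ext
  change (pullObj f a B).hom.left.appTop _ = _
  erw [overIso_left, Scheme.Hom.id_appTop]
  rfl

lemma pullApp_smul (M : BigSite.Mod K S) (B : Alg R) (r : B)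
    (z : (FModPre K a ((BigSite.pullMod K f).obj M).val).obj (pt B)) :
    pullApp f a M B (r • z) = (r • pullApp f a M B z : (FModPre K (a ≫ f) M.val).obj (pt B)) := by
  apply (sectOf (a ≫ f) M.val B).injective
  rw [sectOf_smul, sectOf_pullApp, sectOf_pullApp, sectOf_smul, pv_smul, tr_smul, toSect_pullObj]

/-- The functor of a pullback. -/
noncomputable def pullToMVF (M : BigSite.Mod K S) :
    FModPre K a ((BigSite.pullMod K f).obj M).val ⟶ FModPre K (a ≫ f) M.val :=
  PresheafOfModules.homMk
    { app := fun X => AddCommGrpCat.ofHom (pullApp f a M X.unop.unop)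
      naturality := fun {X Y} g => by
        ext z
        exact pullApp_natural f a M g.unop.unop z }
    (fun X r z => pullApp_smul f a M X.unop.unop r z)

lemma isIso_pullToMVF (M : BigSite.Mod K S) : IsIso (pullToMVF f a M) := by
  refine isIso_of_bijective _ fun B => ?_
  have h : Function.Bijective (tr M.val (pullObj f a B).hom) := by
    haveI : IsIso (M.val.presheaf.map (pullObj f a B).hom.op) := inferInstance
    exact ConcreteCategory.bijective_of_isIso (M.val.presheaf.map (pullObj f a B).hom.op)
  exact ((sectOf (a ≫ f) M.val B).symm.bijective.comp h).comp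
    ((pv f M _).bijective.comp (sectOf a ((BigSite.pullMod K f).obj M).val B).bijective)

/-- Adequacy of a pullback at an affine object. -/
theorem adequate_pull_iff (M : BigSite.Mod K S) :
    adequate R (FModPre K a ((BigSite.pullMod K f).obj M).val) ↔ adequate R (FModPre K (a ≫ f) M.val) := by
  haveI := isIso_pullToMVF f a M
  exact ⟨(adequate R).prop_of_iso (asIso (pullToMVF f a M)),
    (adequate R).prop_of_iso (asIso (pullToMVF f a M)).symm⟩

end Pull

end Groth.Agent.H02CA.Adq
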