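import Mathlib.Algebra.Category.ModuleCat.Presheaf.Sheafification
import Mathlib.Algebra.Category.ModuleCat.Presheaf.Colimits
import Mathlib.Algebra.Category.ModuleCat.Sheaf.Colimits
import Groth.Prelude.Def_BigSite2
import Mathlib.CategoryTheory.Sites.EpiMono
import Mathlib.Algebra.Homology.ShortComplex.ModuleCat

/-!
# The underlying sheaf of abelian groups of a sheaf of modules commutes with colimits
-/

set_option autoImplicit false
set_option linter.style.haveILetI false

universe u v w v' u'

open CategoryTheory Limits

namespace Groth.Agent.H02CA.Adq.ToAb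

variable {C : Type u'} [Category.{v'} C] {J : GrothendieckTopology C}
  [HasSheafify J AddCommGrpCat.{u}] [J.WEqualsLocallyBijective AddCommGrpCat.{u}]

/-- Colimits of sheaves of modules are computed on sheaves of abelian groups. -/
theorem preservesColimitsOfShape_toSheaf (R : Sheaf J RingCat.{u}) (K : Type w) [Category.{v} K]
    [HasColimitsOfShape K (PresheafOfModules.{u} R.obj)]
    [PreservesColimitsOfShape K (PresheafOfModules.toPresheaf.{u} R.obj)] :
    PreservesColimitsOfShape K (SheafOfModules.toSheaf.{u} R) where
  preservesColimit {D} := by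
    let L := PresheafOfModules.sheafification.{u} (𝟙 R.obj)
    let adj := PresheafOfModules.sheafificationAdjunction.{u} (𝟙 R.obj)
    haveI : L.IsLeftAdjoint := ⟨_, ⟨adj⟩⟩
    haveI : PreservesColimitsOfShape K L := adj.leftAdjoint_preservesColimits.preservesColimitsOfShape
    haveI : (presheafToSheaf J AddCommGrpCat.{u}).IsLeftAdjoint :=
      ⟨_, ⟨sheafificationAdjunction J AddCommGrpCat.{u}⟩⟩
    haveI : PreservesColimitsOfShape K (L ⋙ SheafOfModules.toSheaf.{u} R) :=
      preservesColimitsOfShape_of_natIso (PresheafOfModules.sheafificationCompToSheaf.{u} (𝟙 R.obj)).symm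
    let G' := SheafOfModules.forget.{u} R ⋙ PresheafOfModules.restrictScalars (𝟙 R.obj)
    let D' := D ⋙ G'
    have hc : IsColimit (L.mapCocone (colimit.cocone D')) :=
      isColimitOfPreserves L (colimit.isColimit D')
    have hG : IsColimit ((SheafOfModules.toSheaf R).mapCocone (L.mapCocone (colimit.cocone D'))) :=
      isColimitOfPreserves (L ⋙ SheafOfModules.toSheaf R) (colimit.isColimit D')
    haveI : PreservesColimit (D ⋙ G' ⋙ L) (SheafOfModules.toSheaf.{u} R) :=
      preservesColimit_of_preserves_colimit_cocone hc hG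
    exact preservesColimit_of_iso_diagram _
      (Functor.isoWhiskerLeft D (asIso adj.counit) : D ⋙ G' ⋙ L ≅ D)

theorem preservesFiniteColimits_toSheaf (R : Sheaf J RingCat.{u}) :
    PreservesFiniteColimits (SheafOfModules.toSheaf.{u} R) where
  preservesFiniteColimits K _ _ := preservesColimitsOfShape_toSheaf R K

end Groth.Agent.H02CA.Adq.ToAb

namespace Groth.Agent.H02CA.Adq

open AlgebraicGeometry Opposite

universe t

variable {K : Precoverage Scheme.{t}} [BigSite.OSh K] {S : Scheme.{t}}

/-- Exactness gives local preimages. -/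
theorem imageSieve_mem_of_exact {C : ShortComplex (BigSite.Mod K S)} (hC : C.Exact) {U : Over S}
    (x : C.X₂.val.obj (op U)) (hx : C.g.val.app (op U) x = 0) :
    Presheaf.imageSieve ((SheafOfModules.toSheaf _).map C.f).hom (U := U) x ∈ QuotSh.J K S U := by
  haveI := ToAb.preservesFiniteColimits_toSheaf (BigSite.ORing K S)
  haveI : (SheafOfModules.toSheaf.{t + 1} (BigSite.ORing K S)).PreservesEpimorphisms :=
    preservesEpimorphisms_of_preservesColimitsOfShape _
  haveI : Epi (kernel.lift C.g C.f C.zero) := C.exact_iff_epi_kernel_lift.1 hC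
  let l := (SheafOfModules.toSheaf _).map (kernel.lift C.g C.f C.zero)
  haveI : Epi l := inferInstance
  haveI : Sheaf.IsLocallySurjective l := (Sheaf.isLocallySurjective_iff_epi' (φ := l)).2 inferInstance
  haveI : Presheaf.IsLocallySurjective (QuotSh.J K S) l.hom := this
  obtain ⟨y, hy⟩ : ∃ y : (kernel C.g).val.obj (op U), (kernel.ι C.g).val.app (op U) y = x := by
    have hS : (ShortComplex.mk (kernel.ι C.g) C.g (kernel.condition C.g)).Exact :=
      ShortComplex.exact_of_f_is_kernel _ (kernelIsKernel C.g)
    haveI : Mono (ShortComplex.mk (kernel.ι C.g) C.g (kernel.condition C.g)).f :=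
      inferInstanceAs (Mono (kernel.ι C.g))
    exact (ShortComplex.moduleCat_exact_iff _).1
      (hS.map_of_mono_of_preservesKernel (SheafOfModules.forget _ ⋙
        PresheafOfModules.evaluation _ (op U)) inferInstance inferInstance) x hx
  refine GrothendieckTopology.superset_covering _ ?_ (Presheaf.imageSieve_mem (QuotSh.J K S) l.hom y)
  rintro V g ⟨z, hz⟩
  refine ⟨z, ?_⟩
  rw [← hy, ← kernel.lift_ι C.g C.f C.zero]
  exact (congrArg ((kernel.ι C.g).val.app (op V)) hz).trans
    (PresheafOfModules.naturality_apply (kernel.ι C.g).val g.op y)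

end Groth.Agent.H02CA.Adq
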