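import Groth.Agent.H02CA.Adeq.Big.Affine
import Groth.Agent.H02CA.Adeq.Big.ToAb
import Groth.Agent.H02CA.Adeq.Ext
import Mathlib.RingTheory.Spectrum.Prime.RingHom

/-!
# Extensions of adequate modules
-/

set_option autoImplicit false
set_option linter.style.haveILetI false

universe u

open CategoryTheory Opposite Limits TensorProduct AlgebraicGeometry MorphismProperty

namespace Groth.Agent.H02CA.Adq

open Adeq

/-- A sheaf of modules glues along a covering by algebras. -/
theorem glue_of_cover {K : Precoverage Scheme.{u}} [BigSite.OSh K] {S : Scheme.{u}} {R : CommRingCat.{u}}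
    (M : BigSite.Mod K S) (a : Spec R ⟶ S) {B : Alg R} {ι : Type} (C' : ι → Alg R) (f : ∀ j, B ⟶ C' j)
    (hJ : Sieve.ofArrows (fun j => (specOver a).obj (op (C' j))) (fun j => (specOver a).map (f j).op) ∈
      QuotSh.J K S ((specOver a).obj (op B))) :
    Glue ((toMVF K a).obj M) C' f := by
  let C : ι → Over S := fun j => (specOver a).obj (op (C' j))
  let c : ∀ j, C j ⟶ (specOver a).obj (op B) := fun j => (specOver a).map (f j).op
  let π : Spec (CommRingCat.of B) ⟶ Spec R := Spec.map (CommRingCat.ofHom (algebraMap R B))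
  have hsh : Presieve.IsSheaf (QuotSh.J K S) (M.val.presheaf ⋙ CategoryTheory.forget AddCommGrpCat.{u + 1}) :=
    (isSheaf_iff_isSheaf_of_type _ _).1 ((Presheaf.isSheaf_iff_isSheaf_forget (QuotSh.J K S) M.val.presheaf
      (CategoryTheory.forget AddCommGrpCat.{u + 1})).1 M.isSheaf)
  have hfor := (Presieve.isSheafFor_arrows_iff _ _).1
    ((Presieve.isSheafFor_iff_generate (Presieve.ofArrows C c)).2 (hsh _ hJ))
  refine ⟨fun x hx => ?_, fun y hy => ?_⟩
  · obtain ⟨t, -, ht⟩ := hfor (fun j => (0 : M.val.obj (op (C j)))) (fun j k Z r r' _ =>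
      (map_zero (M.val.map r.op).hom).trans (map_zero (M.val.map r'.op).hom).symm)
    refine (ht x fun j => hx j).trans (ht 0 fun j => ?_).symm
    exact map_zero (M.val.map (c j).op).hom
  · obtain ⟨t, ht, -⟩ := hfor y (fun j k Z r r' hrr => by
      let rj : Z.left ⟶ Spec (CommRingCat.of (C' j : Type u)) := r.left
      let rk : Z.left ⟶ Spec (CommRingCat.of (C' k : Type u)) := r'.left
      let q : Z.left ⟶ Spec R := rj ≫ Spec.map (CommRingCat.ofHom (algebraMap R (C' j : Type u)))
      have hq : q ≫ a = Z.hom := (Category.assoc _ _ _).trans (Over.w r)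
      have hl : rj ≫ Spec.map (CommRingCat.ofHom (f j).hom.toRingHom) =
          rk ≫ Spec.map (CommRingCat.ofHom (f k).hom.toRingHom) :=
        congrArg CommaMorphism.left hrr
      have hal : ∀ i, Spec.map (CommRingCat.ofHom (algebraMap R (C' i : Type u))) =
          Spec.map (CommRingCat.ofHom (f i).hom.toRingHom) ≫ π := fun i => by
        rw [← Spec.map_comp, ← CommRingCat.ofHom_comp]
        exact (congrArg (fun φ => Spec.map (CommRingCat.ofHom φ)) (f i).hom.comp_algebraMap).symm
      have hq' : rk ≫ Spec.map (CommRingCat.ofHom (algebraMap R (C' k : Type u))) = q := by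
        change _ = rj ≫ _
        rw [hal, hal, ← Category.assoc, ← hl, Category.assoc]
      have e : f j ≫ gHom q rj rfl = f k ≫ gHom q rk hq' := by
        rw [comp_gHom, comp_gHom]
        exact gHom_congr q hl _
      have h := hy j k (gAlg q) (gHom q rj rfl) (gHom q rk hq') e
      have h' := congrArg (M.val.map (toG a q hq).op) h
      have key : ∀ (i : ι) (s : Z ⟶ C i) (hs : s.left ≫ Spec.map
          (CommRingCat.ofHom (algebraMap R (C' i : Type u))) = q),
          M.val.presheaf.map s.op (y i) =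
            M.val.map (toG a q hq).op (mp ((toMVF K a).obj M) (gHom q s.left hs) (y i)) := fun i s hs => by
        conv_lhs => rw [← toG_comp a q hq s hs, op_comp, Functor.map_comp]
        rfl
      exact (key j r rfl).trans (h'.trans (key k r' hq').symm))
    exact ⟨t, fun j => ht j⟩


/-- The unique maps between the first term and the algebra. -/
lemma amD_amD_zero {R : Type u} [CommRing R] (A : Type u) [CommRing A] [Algebra R A] (F : MVF R)
    (x : F.obj (pt (amAlg A 0))) : amD A F 1 (amD A F 0 x) = 0 := by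
  have h : ∀ (i i' : Fin 2) (j j' : Fin 3), j.succAbove (i.succAbove 0) = j'.succAbove (i'.succAbove 0) →
      amδ (R := R) A 0 i ≫ amδ A 1 j = amδ A 0 i' ≫ amδ A 1 j' := by
    intro i i' j j' e
    apply CommAlgCat.hom_ext
    refine Groth.Agent.H13Desc.Amitsur.algHom_ext R A fun k a => ?_
    obtain rfl : k = 0 := Fin.fin_one_eq_zero k
    change Groth.Agent.H13Desc.Amitsur.δ R A 1 j (Groth.Agent.H13Desc.Amitsur.δ R A 0 i _) =
      Groth.Agent.H13Desc.Amitsur.δ R A 1 j' (Groth.Agent.H13Desc.Amitsur.δ R A 0 i' _)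
    erw [Groth.Agent.H13Desc.Amitsur.δ_ι, Groth.Agent.H13Desc.Amitsur.δ_ι,
      Groth.Agent.H13Desc.Amitsur.δ_ι, Groth.Agent.H13Desc.Amitsur.δ_ι, e]
  have h1 : amδ (R := R) A 0 0 ≫ amδ A 1 0 = amδ A 0 0 ≫ amδ A 1 1 := h _ _ _ _ (by decide)
  have h2 : amδ (R := R) A 0 0 ≫ amδ A 1 2 = amδ A 0 1 ≫ amδ A 1 0 := h _ _ _ _ (by decide)
  have h3 : amδ (R := R) A 0 1 ≫ amδ A 1 1 = amδ A 0 1 ≫ amδ A 1 2 := h _ _ _ _ (by decide)
  rw [amD_apply]
  refine (Fin.sum_univ_three _).trans ?_
  have k1 := (mp_comp F _ _ x).symm.trans ((congrArg (fun f => mp F f x) h1).trans (mp_comp F _ _ x))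
  have k2 := (mp_comp F _ _ x).symm.trans ((congrArg (fun f => mp F f x) h2).trans (mp_comp F _ _ x))
  have k3 := (mp_comp F _ _ x).symm.trans ((congrArg (fun f => mp F f x) h3).trans (mp_comp F _ _ x))
  simp only [amD_apply, Fin.sum_univ_two, map_add, map_zsmul]
  simp
  erw [k1, k2, k3]
  abel

variable {P : MorphismProperty Scheme.{u}} [GoodCov P] [BigSite.OSh (Scheme.precoverage P)] {S : Scheme.{u}}

/-- A sheaf of modules turns finite products into products. -/
theorem glue_prod {R : CommRingCat.{u}} (M : BigSite.Mod (Scheme.precoverage P) S) (a : Spec R ⟶ S) {n : ℕ}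
    (R' : Fin n → Type u) [∀ j, CommRing (R' j)] [∀ j, Algebra R (R' j)] :
    ∀ y : ∀ j, ((toMVF (Scheme.precoverage P) a).obj M).obj (pt (algOf R (R' j))),
      ∃ z : ((toMVF (Scheme.precoverage P) a).obj M).obj (pt (algOf R (∀ j, R' j))),
        ∀ j, mp ((toMVF (Scheme.precoverage P) a).obj M) (projHom R' j) z = y j := by
  classical
  intro y
  refine (glue_of_cover M a (fun j => algOf R (R' j)) (projHom R') ?_).glue y fun j k D g h e => ?_
  · rw [GrothendieckTopology.mem_over_iff, Sieve.overEquiv_ofArrows]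
    refine Precoverage.generate_mem_toGrothendieck ((Scheme.ofArrows_mem_precoverage_iff P).2
      ⟨fun x => ?_, fun j => GoodCov.openImmersion _
        (inferInstanceAs (IsOpenImmersion (Spec.map (CommRingCat.ofHom (Pi.evalRingHom R' j)))))⟩)
    obtain ⟨j, q, hq⟩ := PrimeSpectrum.exists_comap_evalRingHom_eq (R := R') x
    exact ⟨j, q, hq⟩
  · have e' : ∀ b : ∀ j, R' j, g.hom (b j) = h.hom (b k) := fun b =>
      congrArg (fun f : algOf R (∀ j, R' j) ⟶ D => f.hom b) e
    by_cases hjk : j = k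
    · subst hjk
      obtain rfl : g = h := by
        apply CommAlgCat.hom_ext
        refine DFunLike.ext _ _ fun r => ?_
        have h0 := e' (Pi.single j r)
        rwa [Pi.single_eq_same] at h0
      rfl
    · have h0 := e' (Pi.single j 1)
      rw [Pi.single_eq_same, Pi.single_eq_of_ne (Ne.symm hjk), map_one, map_zero] at h0
      haveI : Subsingleton (D : Type u) := subsingleton_of_zero_eq_one h0.symm
      haveI : Subsingleton (((toMVF (Scheme.precoverage P) a).obj M).obj (pt D)) :=
        Module.subsingleton (D : Type u) _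
      exact Subsingleton.elim _ _

/-- Sections over affine objects of an epimorphism with adequate kernel and adequate target are surjective. -/
theorem surjective_of_shortExact (hflat : ∀ {X Y : Scheme.{u}} (f : X ⟶ Y), P f → Flat f)
    {C : ShortComplex (BigSite.Mod (Scheme.precoverage P) S)} (hC : C.ShortExact)
    (h₁ : adequateMod (Scheme.precoverage P) S C.X₁) (h₃ : adequateMod (Scheme.precoverage P) S C.X₃)
    {R : CommRingCat.{u}} (a : Spec R ⟶ S) :
    Function.Surjective (C.g.val.app (op (baseObj a))) := by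
  haveI := hC.epi_g
  haveI := hC.mono_f
  intro x
  have hepi : (ShortComplex.mk C.g (0 : C.X₃ ⟶ C.X₃) comp_zero).Exact :=
    (ShortComplex.exact_iff_epi _ rfl).2 inferInstance
  obtain ⟨n, R', i1, i2, hff, hmem, hcov⟩ := exists_refine_base hflat a _
    (imageSieve_mem_of_exact hepi x rfl)
  choose w hw using hmem
  let F₁ := (toMVF (Scheme.precoverage P) a).obj C.X₁
  let F₂ := (toMVF (Scheme.precoverage P) a).obj C.X₂
  let F₃ := (toMVF (Scheme.precoverage P) a).obj C.X₃
  let i : F₁ ⟶ F₂ := (toMVF (Scheme.precoverage P) a).map C.f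
  let p : F₂ ⟶ F₃ := (toMVF (Scheme.precoverage P) a).map C.g
  have hi : ∀ B, Function.Injective (i.app (pt B)) := fun B => by
    have hm : Mono ((SheafOfModules.forget _ ⋙
      PresheafOfModules.evaluation _ (op ((specOver a).obj (op B)))).map C.f) := inferInstance
    have hi := (ModuleCat.mono_iff_injective _).1 hm
    exact fun x y h => hi h
  have hip : ∀ (B) (y : F₂.obj (pt B)), p.app (pt B) y = 0 → ∃ z, i.app (pt B) z = y := fun B y hy =>
    (ShortComplex.moduleCat_exact_iff _).1
      (hC.exact.map_of_mono_of_preservesKernel (SheafOfModules.forget _ ⋙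
        PresheafOfModules.evaluation _ (op ((specOver a).obj (op B)))) inferInstance inferInstance) y hy
  have hF₃ : adequate R F₃ := allAdeq_of_adequateMod h₃ R a
  let z₀ : F₃.obj (pt (algOf R R)) := (sectOf a C.X₃.val (algOf R R)).symm x
  let y : ∀ j, F₂.obj (pt (algOf R (R' j))) := fun j => (sectOf a C.X₂.val (algOf R (R' j))).symm (w j)
  have hy : ∀ j, p.app (pt (algOf R (R' j))) (y j) = mp F₃ (ofIdHom (algOf R (R' j))) z₀ := hw
  obtain ⟨z, hz⟩ := glue_prod C.X₂ a R' y
  let A : Type u := ∀ j, R' j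
  have hP : IsProdFam (B := algOf R A) (fun j => algOf R (R' j)) (projHom R') := Function.bijective_id
  have hpz : p.app (pt (algOf R A)) z = mp F₃ (ofIdHom (algOf R A)) z₀ :=
    (bijective_of_isProdFam hF₃ hP).1 (funext fun j => by
      change mp F₃ (projHom R' j) _ = mp F₃ (projHom R' j) _
      rw [← nat_mp, ← mp_comp, hom_ext_ofId (ofIdHom (algOf R A) ≫ projHom R' j) (ofIdHom (algOf R (R' j)))]
      exact (congrArg (p.app _) (hz j)).trans (hy j))
  let z' : F₂.obj (pt (amAlg A 0)) := mp F₂ (toAm0 A) z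
  have hpz' : p.app (pt (amAlg A 0)) z' = mp F₃ (amAug A) z₀ := by
    rw [nat_mp, hpz, ← mp_comp, hom_ext_ofId (ofIdHom (algOf R A) ≫ toAm0 A) (amAug A)]
  obtain ⟨e, he⟩ := hip _ (amD A F₂ 0 z') (by
    rw [amD_natural, hpz']
    exact (exact_aug A hF₃ _).2 ⟨z₀, rfl⟩)
  have hde : amD A F₁ 1 e = 0 := hi _ (by rw [amD_natural, he, amD_amD_zero, map_zero])
  obtain ⟨α, hα⟩ := (exact_d A (allAdeq_of_adequateMod h₁ R a) 0 e).1 hde
  let v : F₂.obj (pt (amAlg A 0)) := z' - i.app (pt (amAlg A 0)) α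
  have hv : amD A F₂ 0 v = 0 := by rw [map_sub, ← amD_natural, hα, he, sub_self]
  have hzero : ∀ u : F₁.obj (pt (amAlg A 0)), p.app (pt (amAlg A 0)) (i.app (pt (amAlg A 0)) u) = 0 := fun u =>
    congrArg (fun χ : C.X₁ ⟶ C.X₃ => χ.val.app (op ((specOver a).obj (op (amAlg A 0)))) u) C.zero
  have hpv : p.app (pt (amAlg A 0)) v = mp F₃ (amAug A) z₀ := by rw [map_sub, hzero, sub_zero, hpz']
  have hpair : ∀ (D : Alg R) (u₁ u₂ : amAlg (R := R) A 0 ⟶ D), mp F₂ u₁ v = mp F₂ u₂ v := by
    intro D u₁ u₂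
    have hd : mp F₂ (amδ A 0 0) v = mp F₂ (amδ A 0 1) v := by
      rw [amD_apply, Fin.sum_univ_two] at hv
      simpa [← sub_eq_add_neg, sub_eq_zero] using hv
    let s : Fin 2 → (CommRingCat.of A ⟶ CommRingCat.of (D : Type u)) :=
      ![Groth.Agent.H13Desc.Amitsur.ι R A 0 0 ≫ CommRingCat.ofHom u₁.hom.toRingHom,
        Groth.Agent.H13Desc.Amitsur.ι R A 0 0 ≫ CommRingCat.ofHom u₂.hom.toRingHom]
    have hs : ∀ j (r : R), s j (algebraMap R A r) = algebraMap R (D : Type u) r := fun j r => by
      fin_cases j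
      · exact (congrArg u₁.hom (Groth.Agent.H13Desc.Amitsur.ι_algebraMap R A 0 0 r)).trans (u₁.hom.commutes r)
      · exact (congrArg u₂.hom (Groth.Agent.H13Desc.Amitsur.ι_algebraMap R A 0 0 r)).trans (u₂.hom.commutes r)
    let t : Groth.Agent.H13Desc.Amitsur.Y R A 1 ⟶ CommRingCat.of (D : Type u) :=
      WidePushout.desc (CommRingCat.ofHom (algebraMap R (D : Type u))) s
        (fun j => CommRingCat.hom_ext (RingHom.ext (hs j)))
    have ht : ∀ j b, t (Groth.Agent.H13Desc.Amitsur.ι R A 1 j b) = s j b := fun j b =>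
      ConcreteCategory.congr_hom (WidePushout.ι_desc _ _ _ _ j : Groth.Agent.H13Desc.Amitsur.ι R A 1 j ≫ t = s j) b
    have htc : ∀ r : R, t (algebraMap R (Groth.Agent.H13Desc.Amitsur.Y R A 1) r) = algebraMap R (D : Type u) r :=
      fun r => by rw [← Groth.Agent.H13Desc.Amitsur.ι_algebraMap R A 1 0 r, ht, hs]
    let t' : amAlg (R := R) A 1 ⟶ D := CommAlgCat.ofHom
      ({ t.hom with commutes' := htc } : Groth.Agent.H13Desc.Amitsur.Y R A 1 →ₐ[R] (D : Type u))
    have e₁ : amδ A 0 1 ≫ t' = u₁ := by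
      apply CommAlgCat.hom_ext
      refine Groth.Agent.H13Desc.Amitsur.algHom_ext R A fun k b => ?_
      obtain rfl : k = 0 := Fin.fin_one_eq_zero k
      change t (Groth.Agent.H13Desc.Amitsur.δ R A 0 1 _) = _
      rw [Groth.Agent.H13Desc.Amitsur.δ_ι, ht]
      rfl
    have e₂ : amδ A 0 0 ≫ t' = u₂ := by
      apply CommAlgCat.hom_ext
      refine Groth.Agent.H13Desc.Amitsur.algHom_ext R A fun k b => ?_
      obtain rfl : k = 0 := Fin.fin_one_eq_zero k
      change t (Groth.Agent.H13Desc.Amitsur.δ R A 0 0 _) = _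
      rw [Groth.Agent.H13Desc.Amitsur.δ_ι, ht]
      rfl
    rw [← e₁, ← e₂, mp_comp, mp_comp, hd]
  have hJ : Sieve.ofArrows (fun j => (specOver a).obj (op (algOf R (R' j))))
      (fun j => (specOver a).map (ofIdHom (algOf R (R' j))).op) ∈
        QuotSh.J (Scheme.precoverage P) S ((specOver a).obj (op (algOf R R))) := hcov
  have G₂ := glue_of_cover C.X₂ a _ _ hJ
  obtain ⟨x₀, hx₀⟩ := G₂.glue (fun j => mp F₂ (ofAm0 A ≫ projHom R' j) v) fun j k D g h _ => by
    rw [← mp_comp, ← mp_comp]
    exact hpair D _ _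
  refine ⟨sectOf a C.X₂.val (algOf R R) x₀, ?_⟩
  suffices h : p.app (pt (algOf R R)) x₀ = z₀ from congrArg (sectOf a C.X₃.val (algOf R R)) h
  refine sub_eq_zero.1 ((glue_of_cover C.X₃ a _ _ hJ).sep _ fun j => ?_)
  rw [map_sub, sub_eq_zero, ← nat_mp, hx₀, nat_mp, hpv, ← mp_comp]
  exact congrArg (fun q => mp F₃ q z₀) (hom_ext_ofId _ _)

/-- Extensions of adequate modules. -/
theorem adequateMod_of_shortExact (hflat : ∀ {X Y : Scheme.{u}} (f : X ⟶ Y), P f → Flat f)
    {C : ShortComplex (BigSite.Mod (Scheme.precoverage P) S)} (hC : C.ShortExact)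
    (h₁ : adequateMod (Scheme.precoverage P) S C.X₁) (h₃ : adequateMod (Scheme.precoverage P) S C.X₃) :
    adequateMod (Scheme.precoverage P) S C.X₂ := by
  haveI := hC.mono_f
  refine adequateMod_of_allAdeq fun R a => ?_
  let C' : ShortComplex (MVF R) := C.map (toMVF (Scheme.precoverage P) a)
  have hi : ∀ B, Function.Injective (C'.f.app (pt B)) := fun B => by
    have hm : Mono ((SheafOfModules.forget _ ⋙
      PresheafOfModules.evaluation _ (op ((specOver a).obj (op B)))).map C.f) := inferInstance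
    have hi := (ModuleCat.mono_iff_injective _).1 hm
    exact fun x y h => hi h
  have hip : ∀ (B) (y : C'.X₂.obj (pt B)), C'.g.app (pt B) y = 0 → ∃ z, C'.f.app (pt B) z = y := fun B y hy =>
    (ShortComplex.moduleCat_exact_iff _).1
      (hC.exact.map_of_mono_of_preservesKernel (SheafOfModules.forget _ ⋙
        PresheafOfModules.evaluation _ (op ((specOver a).obj (op B)))) inferInstance inferInstance) y hy
  haveI : Mono C'.f := (mono_iff_injective _).2 hi
  haveI : Epi C'.g := (epi_iff_surjective _).2 fun B =>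
    surjective_transfer C.g.val (baseObjIso a B) (surjective_of_shortExact hflat hC h₁ h₃ _)
  obtain ⟨e⟩ := nonempty_iso_kernel C'.f C'.g C'.zero hi hip
  have hex : C'.Exact := by
    rw [ShortComplex.exact_iff_epi_kernel_lift]
    refine (epi_iff_surjective _).2 fun B w => ?_
    obtain ⟨z, hz⟩ := hip B _ (kernel_condition_apply C'.g B w)
    refine ⟨z, kernel_ι_injective C'.g B (Eq.trans ?_ hz)⟩
    exact congrArg (fun χ : C'.X₁ ⟶ C'.X₂ => χ.app (pt B) z) (kernel.lift_ι C'.g C'.f C'.zero)
  exact adequate_extension C' { exact := hex } (allAdeq_of_adequateMod h₁ R a) (allAdeq_of_adequateMod h₃ R a)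

end Groth.Agent.H02CA.Adq
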