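import Mathlib.AlgebraicGeometry.Scheme
import Mathlib.CategoryTheory.Sites.Over
import Mathlib.CategoryTheory.Sites.Canonical

/-!
# Sheaves on a slice as sheaves over the whole category
-/

set_option autoImplicit false
set_option linter.style.haveILetI false

universe v u

open CategoryTheory Opposite AlgebraicGeometry

namespace Groth.Agent.H02CA.Adq

variable {S : Scheme.{u}} (G : (Over S)ᵒᵖ ⥤ Type v)

/-- Pairs of a structure map and a section over it. -/
abbrev TotObj (X : Scheme.{u}) : Type max u v := Σ f : X ⟶ S, G.obj (op (Over.mk f))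

variable {G}

lemma gmap_congr {A B : Over S} {e e' : A ⟶ B} (h : e.left = e'.left) (x : G.obj (op B)) :
    G.map e.op x = G.map e'.op x := by
  rw [show e = e' from Over.OverMorphism.ext h]

lemma gmap_comp {A B C : Over S} (e : A ⟶ B) (e' : B ⟶ C) (x : G.obj (op C)) :
    G.map e.op (G.map e'.op x) = G.map (e ≫ e').op x := by
  rw [op_comp, Functor.map_comp]
  rfl

lemma gmap_id {A : Over S} (e : A ⟶ A) (h : e.left = 𝟙 A.left) (x : G.obj (op A)) : G.map e.op x = x := by
  rw [show e = 𝟙 A from Over.OverMorphism.ext h, op_id, G.map_id]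
  rfl

/-- The section of a pair over a given object. -/
def totVal (V : Over S) (p : TotObj G V.left) (a : p.1 = V.hom) : G.obj (op V) :=
  G.map (Over.homMk (U := V) (V := Over.mk p.1) (𝟙 V.left) ((Category.id_comp p.1).trans a)).op p.2

lemma totVal_congr (V : Over S) {p p' : TotObj G V.left} (h : p = p') (a : p.1 = V.hom) (b : p'.1 = V.hom) :
    totVal V p a = totVal V p' b := by
  subst h
  rfl

lemma totVal_mk {X : Scheme.{u}} (f : X ⟶ S) (z : G.obj (op (Over.mk f))) :
    totVal (Over.mk f) ⟨f, z⟩ rfl = z :=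
  gmap_id _ rfl z

lemma totObj_ext {X : Scheme.{u}} {p p' : TotObj G X} (a : p.1 = p'.1)
    (h : totVal (Over.mk p'.1) p a = p'.2) : p = p' := by
  obtain ⟨f, x⟩ := p
  obtain ⟨f', x'⟩ := p'
  change f = f' at a
  subst a
  exact congrArg _ ((totVal_mk f x).symm.trans h)

/-- The pullback of a pair. -/
def totMap {X Y : Scheme.{u}} (g : X ⟶ Y) (p : TotObj G Y) : TotObj G X :=
  ⟨g ≫ p.1, G.map (Over.homMk g rfl : Over.mk (g ≫ p.1) ⟶ Over.mk p.1).op p.2⟩

lemma totVal_map {W V : Over S} (g : W ⟶ V) (p : TotObj G V.left) (a : p.1 = V.hom)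
    (b : (totMap g.left p).1 = W.hom) : G.map g.op (totVal V p a) = totVal W (totMap g.left p) b :=
  (gmap_comp _ _ _).trans (Eq.trans (gmap_congr (by
    change g.left ≫ 𝟙 V.left = 𝟙 W.left ≫ g.left
    rw [Category.comp_id, Category.id_comp]) _) (gmap_comp _ _ _).symm)

lemma totVal_totMap {X : Scheme.{u}} {W : Over S} (g : W.left ⟶ X) (p : TotObj G X)
    (b : (totMap g p).1 = W.hom) :
    totVal W (totMap g p) b = G.map (Over.homMk (U := W) (V := Over.mk p.1) g b).op p.2 :=
  (gmap_comp _ _ _).trans (gmap_congr (Category.id_comp g) _)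

lemma totMap_id {X : Scheme.{u}} (p : TotObj G X) : totMap (𝟙 X) p = p :=
  totObj_ext (Category.id_comp _) ((totVal_totMap (W := Over.mk p.1) _ p _).trans (gmap_id _ rfl _))

lemma totMap_comp {X Y Z : Scheme.{u}} (g : X ⟶ Y) (g' : Y ⟶ Z) (p : TotObj G Z) :
    totMap (g ≫ g') p = totMap g (totMap g' p) :=
  totObj_ext (Category.assoc _ _ _)
    ((totVal_totMap (W := Over.mk _) _ p _).trans ((gmap_congr rfl _).trans (gmap_comp (Over.homMk g rfl : Over.mk (g ≫ g' ≫ p.1) ⟶ Over.mk (g' ≫ p.1))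
      (Over.homMk g' rfl : Over.mk (g' ≫ p.1) ⟶ Over.mk p.1) p.2).symm))

variable (G) in
/-- The presheaf of pairs. -/
def tot : Scheme.{u}ᵒᵖ ⥤ Type max u v where
  obj X := TotObj G X.unop
  map g := TypeCat.ofHom (totMap g.unop)
  map_id X := ConcreteCategory.hom_ext _ _ fun p => totMap_id p
  map_comp g g' := ConcreteCategory.hom_ext _ _ fun p => totMap_comp g'.unop g.unop p

/-- Pairs glue along a sieve along which structure maps and sections glue. -/
theorem isSheafFor_tot {Y : Scheme.{u}} (R : Sieve Y) (hS : Presieve.IsSheafFor (yoneda.obj S) R.arrows)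
    (hG : ∀ h : Y ⟶ S, Presieve.IsSheafFor G ((Sieve.overEquiv (Over.mk h)).symm R).arrows) :
    Presieve.IsSheafFor (tot G) R.arrows := by
  intro x hx
  let x₁ : Presieve.FamilyOfElements (yoneda.obj S) R.arrows := fun Z g hg => (x g hg).1
  have hx₁ : x₁.Compatible := fun Z₁ Z₂ W g₁ g₂ f₁ f₂ h₁ h₂ e => congrArg Sigma.fst (hx g₁ g₂ h₁ h₂ e)
  obtain ⟨h, hh, huniq⟩ := hS x₁ hx₁
  have ha : ∀ {V : Over S} (v : V ⟶ Over.mk h) (hv : R v.left), (x v.left hv).1 = V.hom := fun v hv =>
    (hh v.left hv).symm.trans (Over.w v)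
  let x₂ : Presieve.FamilyOfElements G ((Sieve.overEquiv (Over.mk h)).symm R).arrows := fun V v hv =>
    totVal V (x v.left hv) (ha v hv)
  have hx₂ : x₂.Compatible := by
    intro V₁ V₂ W g₁ g₂ f₁ f₂ h₁ h₂ e
    exact (totVal_map g₁ _ _ ((congrArg (g₁.left ≫ ·) (ha f₁ h₁)).trans (Over.w g₁))).trans
      ((totVal_congr W (hx g₁.left g₂.left h₁ h₂ (congrArg CommaMorphism.left e)) _
        ((congrArg (g₂.left ≫ ·) (ha f₂ h₂)).trans (Over.w g₂))).trans (totVal_map g₂ _ _ _).symm)
  obtain ⟨y, hy, hyuniq⟩ := hG h x₂ hx₂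
  refine ⟨⟨h, y⟩, fun Z g hg => ?_, fun p hp => ?_⟩
  · have h1 : g ≫ h = (x g hg).1 := hh g hg
    refine totObj_ext h1 ?_
    refine (totVal_totMap (W := Over.mk (x g hg).1) g ⟨h, y⟩ h1).trans ?_
    exact (hy (Over.homMk g h1 : Over.mk (x g hg).1 ⟶ Over.mk h) hg).trans (totVal_mk _ _)
  · obtain ⟨f, z⟩ := p
    have hf : f = h := huniq f fun Z g hg => congrArg Sigma.fst (hp g hg)
    subst hf
    refine congrArg _ (hyuniq z fun V v hv => ?_)
    exact (gmap_congr rfl z).trans ((totVal_totMap v.left ⟨f, z⟩ (Over.w v)).symm.trans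
      (totVal_congr V (hp v.left hv) _ (ha v hv)))

variable (G) in
/-- A sheaf on the slice gives a sheaf. -/
theorem isSheaf_tot {J : GrothendieckTopology Scheme.{u}} (hS : Presieve.IsSheaf J (yoneda.obj S))
    (hG : Presieve.IsSheaf (J.over S) G) : Presieve.IsSheaf J (tot G) := fun _ R hR =>
  isSheafFor_tot R (hS R hR) fun h => hG _ (GrothendieckTopology.overEquiv_symm_mem_over J (Over.mk h) R hR)

variable (G) in
/-- A sheaf of pairs gives a sheaf on the slice. -/
theorem isSheaf_of_tot {J : GrothendieckTopology Scheme.{u}} (hS : Presieve.IsSheaf J (yoneda.obj S))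
    (hT : Presieve.IsSheaf J (tot G)) : Presieve.IsSheaf (J.over S) G := by
  intro U T hT'
  rw [GrothendieckTopology.mem_over_iff] at hT'
  intro x hx
  let x' : Presieve.FamilyOfElements (tot G) (Sieve.overEquiv U T).arrows := fun Z g hg =>
    ⟨g ≫ U.hom, x (Over.homMk g rfl) ((Sieve.overEquiv_iff T g).1 hg)⟩
  have hx' : x'.Compatible := by
    intro Z₁ Z₂ W g₁ g₂ f₁ f₂ h₁ h₂ e
    have e' : g₁ ≫ f₁ ≫ U.hom = g₂ ≫ f₂ ≫ U.hom := by rw [← Category.assoc, e, Category.assoc]
    refine totObj_ext e' ?_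
    refine (totVal_totMap (W := Over.mk (g₂ ≫ f₂ ≫ U.hom)) g₁ (x' f₁ h₁) e').trans ?_
    exact hx _ _ _ _ (Over.OverMorphism.ext e)
  obtain ⟨⟨f, y⟩, hy, huniq⟩ := hT _ hT' x' hx'
  obtain rfl : f = U.hom := (hS _ hT').isSeparatedFor.ext fun Z g hg => congrArg Sigma.fst (hy g hg)
  refine ⟨y, fun V v hv => ?_, fun z hz => ?_⟩
  · have h1 : (Sieve.overEquiv U T) v.left := by
      have h := T.downward_closed hv (Over.homMk (𝟙 V.left)
        ((Category.id_comp _).trans (Over.w v).symm) : Over.mk (v.left ≫ U.hom) ⟶ V)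
      refine (Sieve.overEquiv_iff T v.left).2 ?_
      convert h using 1
      apply Over.OverMorphism.ext
      exact (Category.id_comp _).symm
    refine (gmap_congr (G := G) (e' := Over.homMk v.left (Over.w v)) rfl y).trans ?_
    refine (totVal_totMap (W := V) v.left ⟨U.hom, y⟩ (Over.w v)).symm.trans ?_
    refine (totVal_congr V (hy v.left h1) _ (Over.w v)).trans ?_
    refine (hx _ (𝟙 V) _ hv (Over.OverMorphism.ext ?_)).trans ?_
    · exact (Category.id_comp _).trans (Category.id_comp _).symm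
    · exact gmap_id _ rfl _
  · have hz' : (⟨U.hom, z⟩ : TotObj G U.left) = ⟨U.hom, y⟩ := by
      refine huniq _ fun Z g hg => totObj_ext rfl ?_
      exact (totVal_mk _ _).trans (hz (Over.homMk g rfl : Over.mk (g ≫ U.hom) ⟶ U) ((Sieve.overEquiv_iff T g).1 hg))
    exact eq_of_heq (Sigma.mk.inj hz').2

end Groth.Agent.H02CA.Adq
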