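import Groth.Agent.H02CA.Adeq.Big.Affine
import Groth.Agent.H02CA.Adeq.Big.Total
import Mathlib.AlgebraicGeometry.Sites.Fpqc

/-!
# Adequate modules are sheaves for the fpqc topology
-/

set_option autoImplicit false
set_option linter.style.haveILetI false

universe u

open CategoryTheory Opposite Limits TensorProduct AlgebraicGeometry MorphismProperty

namespace Groth.Agent.H02CA.Adq

open Adeq

variable {P : MorphismProperty Scheme.{u}} [GoodCov P] [BigSite.OSh (Scheme.precoverage P)] {S : Scheme.{u}}

/-- The underlying presheaf of sets of a module. -/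
noncomputable abbrev setsOf {K : Precoverage Scheme.{u}} [BigSite.OSh K] (M : BigSite.Mod K S) :
    (Over S)ᵒᵖ ⥤ Type (u + 1) :=
  M.val.presheaf ⋙ CategoryTheory.forget AddCommGrpCat.{u + 1}

lemma zariski_le (Q : MorphismProperty Scheme.{u}) [GoodCov Q] :
    Scheme.zariskiTopology ≤ (Scheme.precoverage Q).toGrothendieck :=
  Precoverage.toGrothendieck_mono (Scheme.precoverage_mono fun _ _ f hf => GoodCov.openImmersion f hf)

/-- Structure maps glue in the fpqc topology. -/
lemma isSheaf_yoneda_fpqc (X : Scheme.{u}) : Presieve.IsSheaf Scheme.fpqcTopology (yoneda.obj X) :=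
  GrothendieckTopology.Subcanonical.isSheaf_of_isRepresentable _

/-- Sections of a module glue along faithfully flat maps of affine schemes. -/
theorem isSheafFor_tot_singleton (M : BigSite.Mod (Scheme.precoverage P) S)
    (hM : adequateMod (Scheme.precoverage P) S M) {R R' : CommRingCat.{u}} (f : R ⟶ R')
    (hfl : Flat (Spec.map f)) (hs : Surjective (Spec.map f)) :
    Presieve.IsSheafFor (tot (setsOf M)) (Presieve.singleton (Spec.map f)) := by
  letI : Algebra R R' := f.hom.toAlgebra
  haveI : Module.Flat R R' := (HasRingHomProperty.Spec_iff (P := @Flat)).1 hfl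
  haveI : Module.FaithfullyFlat R R' := Module.FaithfullyFlat.of_comap_surjective hs.surj
  have hY : Presieve.IsSheafFor (yoneda.obj S) (Presieve.singleton (Spec.map f)) := by
    refine (isSheaf_yoneda_fpqc S).isSheafFor _ (Precoverage.generate_mem_toGrothendieck ?_)
    haveI := hfl
    haveI := hs
    exact Scheme.Hom.singleton_mem_fpqcPrecoverage _
  rw [Presieve.isSheafFor_singleton] at hY ⊢
  rintro ⟨h', x⟩ hx
  obtain ⟨h, hh, huniq⟩ := hY h' fun p₁ p₂ e => congrArg Sigma.fst (hx p₁ p₂ e)
  change Spec.map f ≫ h = h' at hh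
  subst hh
  obtain ⟨hsep, hglue⟩ := glue_ff (R' : Type u) (allAdeq_of_adequateMod hM R h)
  let E : Over S := (specOver h).obj (op (algOf R R'))
  let i₀ : baseObj h ≅ Over.mk h := overIso _ _ (by
    rw [show CommRingCat.ofHom (algebraMap R R) = 𝟙 R from CommRingCat.hom_ext (RingHom.ext fun _ => rfl)]
    erw [Spec.map_id, Category.id_comp])
  let F : MVF R := (toMVF (Scheme.precoverage P) h).obj M
  let x' : F.obj (pt (algOf R R')) := x
  obtain ⟨y, hy⟩ := hglue (fun _ => x') fun _ _ D g k _ => by
    have hc : ∀ u : algOf R R' ⟶ D, ((specOver h).map u.op).left ≫ Spec.map f =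
        Spec.map (CommRingCat.ofHom (algebraMap R (D : Type u))) := fun u => by
      exact (Spec.map_comp f (CommRingCat.ofHom u.hom.toRingHom)).symm.trans
        (congrArg (fun φ => Spec.map (CommRingCat.ofHom φ)) u.hom.comp_algebraMap)
    have e := hx ((specOver h).map g.op).left ((specOver h).map k.op).left ((hc g).trans (hc k).symm)
    have hv : ∀ u : algOf R R' ⟶ D, ((specOver h).map u.op).left ≫ Spec.map f ≫ h =
        ((specOver h).obj (op D)).hom := fun u => Over.w ((specOver h).map u.op)
    exact (totVal_totMap ((specOver h).map g.op).left ⟨Spec.map f ≫ h, x⟩ (hv g)).symm.trans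
      ((totVal_congr ((specOver h).obj (op D)) e (hv g) (hv k)).trans
        (totVal_totMap ((specOver h).map k.op).left ⟨Spec.map f ≫ h, x⟩ (hv k)))
  have hkey : ∀ z : (setsOf M).obj (op (Over.mk h)),
      mp F (ofIdHom (algOf R R')) ((sectOf h M.val (algOf R R)).symm (tr M.val i₀.hom z)) =
        (totMap (Spec.map f) (⟨h, z⟩ : TotObj (setsOf M) (Spec R))).2 := fun z => by
    change tr M.val ((specOver h).map (ofIdHom (algOf R R')).op) (tr M.val i₀.hom z) = _
    rw [tr_comp]
    refine gmap_congr (G := setsOf M) ?_ z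
    rw [Over.comp_left, specOver_map_left]
    erw [overIso_left, Category.comp_id]
    rfl
  refine ⟨⟨h, tr M.val i₀.inv (sectOf h M.val (algOf R R) y)⟩, ?_, ?_⟩
  · refine congrArg (fun t => (⟨Spec.map f ≫ h, t⟩ : TotObj (setsOf M) (Spec R'))) ?_
    refine (hkey _).symm.trans ?_
    rw [tr_comp, Iso.hom_inv_id]
    refine Eq.trans ?_ (hy ())
    refine congrArg (mp F (ofIdHom (algOf R R'))) ?_
    exact gmap_id (G := setsOf M) _ rfl _
  · rintro ⟨h₁, z⟩ hz
    obtain rfl : h₁ = h := huniq h₁ (congrArg Sigma.fst hz)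
    refine congrArg (fun t => (⟨h₁, t⟩ : TotObj (setsOf M) (Spec R))) ?_
    have hz' : (totMap (Spec.map f) (⟨h₁, z⟩ : TotObj (setsOf M) (Spec R))).2 = x :=
      eq_of_heq (Sigma.mk.inj hz).2
    have e : (sectOf h₁ M.val (algOf R R)).symm (tr M.val i₀.hom z) = y := by
      refine sub_eq_zero.1 (hsep _ fun _ => ?_)
      exact (map_sub (mp F (ofIdHom (algOf R R'))) _ _).trans
        (sub_eq_zero.2 ((hkey z).trans (hz'.trans (hy ()).symm)))
    rw [← e, AddEquiv.apply_symm_apply, tr_comp, Iso.inv_hom_id]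
    exact (gmap_id (G := setsOf M) _ rfl z).symm

/-- Adequate modules satisfy fpqc descent. -/
theorem isSheaf_fpqc_of_adequateMod (hflat : ∀ {X Y : Scheme.{u}} (f : X ⟶ Y), P f → Flat f) (M : BigSite.Mod (Scheme.precoverage P) S)
    (hM : adequateMod (Scheme.precoverage P) S M) :
    Presheaf.IsSheaf (QuotSh.J Scheme.fpqcPrecoverage S)
      ((BigSite.toAbMod (Scheme.precoverage P) S).obj M).obj := by
  rw [Presheaf.isSheaf_iff_isSheaf_forget _ _ (CategoryTheory.forget AddCommGrpCat.{u + 1}),
    isSheaf_iff_isSheaf_of_type]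
  refine isSheaf_of_tot (setsOf M) (isSheaf_yoneda_fpqc S) ?_
  change Presieve.IsSheaf (Scheme.propQCTopology @Flat) _
  rw [isSheaf_type_propQCTopology_iff]
  refine ⟨Presieve.isSheaf_of_le _ (zariski_le P) ?_, fun f hf hs => isSheafFor_tot_singleton M hM f hf hs⟩
  have hle : Scheme.precoverage P ≤ Scheme.fpqcPrecoverage := by
    rw [Scheme.fpqcPrecoverage, Scheme.propQCPrecoverage, le_inf_iff]
    exact ⟨Scheme.precoverage_le_qcPrecoverage_of_isOpenMap fun _ _ f hf => GoodCov.isOpenMap f hf,
      Scheme.precoverage_mono fun _ _ f hf => hflat f hf⟩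
  have hS : Presieve.IsSheaf (Scheme.precoverage P).toGrothendieck (yoneda.obj S) :=
    Presieve.isSheaf_of_le _ (Precoverage.toGrothendieck_mono hle) (isSheaf_yoneda_fpqc S)
  exact isSheaf_tot (setsOf M) hS ((isSheaf_iff_isSheaf_of_type _ _).1
    ((Presheaf.isSheaf_iff_isSheaf_forget _ M.val.presheaf
      (CategoryTheory.forget AddCommGrpCat.{u + 1})).1 M.isSheaf))

end Groth.Agent.H02CA.Adq
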