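import Groth.Agent.H02CA.Adeq.Family
import Groth.Prelude.Def_Adeq2
import Mathlib.CategoryTheory.Sites.IsSheafFor

/-!
# Sheaves of modules on a big site glue along coverings of affine schemes
-/

set_option autoImplicit false
set_option linter.style.haveILetI false

universe u

open CategoryTheory Opposite Limits TensorProduct AlgebraicGeometry

namespace Groth.Agent.H02CA.Adq

open Adeq

variable {K : Precoverage Scheme.{u}} [BigSite.OSh K] {S : Scheme.{u}} {R : CommRingCat.{u}}

/-- Transition maps of the functor of a presheaf of modules. -/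
lemma mp_toMVFPre (a : Spec R ⟶ S) (P : PresheafOfModules.{u + 1} (BigSite.ORing K S).obj)
    {B B' : Alg R} (f : B ⟶ B') (x : (Adeq.FModPre K a P).obj (pt B)) :
    mp (Adeq.FModPre K a P) f x = P.map ((specOver a).map f.op).op x := rfl

/-- The ring map corresponding to a morphism into an affine scheme. -/
noncomputable abbrev gam {Z : Scheme.{u}} {B : CommRingCat.{u}} (f : Z ⟶ Spec B) : B ⟶ Γ(Z, ⊤) :=
  (Scheme.ΓSpecIso B).inv ≫ f.appTop

lemma toSpecΓ_gam {Z : Scheme.{u}} {B : CommRingCat.{u}} (f : Z ⟶ Spec B) :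
    Z.toSpecΓ ≫ Spec.map (gam f) = f := by
  rw [Spec.map_comp, ← Category.assoc, ← Scheme.toSpecΓ_naturality, Category.assoc]
  have h : (Spec B).toSpecΓ ≫ Spec.map (Scheme.ΓSpecIso B).inv = 𝟙 _ := by
    rw [← SpecMap_ΓSpecIso_hom, ← Spec.map_comp, Iso.inv_hom_id, Spec.map_id]
  rw [h, Category.comp_id]

lemma gam_comp {Z : Scheme.{u}} {B C : CommRingCat.{u}} (f : Z ⟶ Spec C) (φ : B ⟶ C) :
    gam (f ≫ Spec.map φ) = φ ≫ gam f := by
  rw [gam, gam, Scheme.Hom.comp_appTop, ← Category.assoc, ← Scheme.ΓSpecIso_inv_naturality, Category.assoc]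

section

variable (a : Spec R ⟶ S)

/-- The algebra of functions on a scheme over an affine scheme. -/
noncomputable def gAlg {Z : Scheme.{u}} (q : Z ⟶ Spec R) : Alg R :=
  letI : Algebra R Γ(Z, ⊤) := (gam q).hom.toAlgebra
  algOf R Γ(Z, ⊤)

/-- A map to an affine scheme as a map of algebras. -/
noncomputable def gHom {Z : Scheme.{u}} (q : Z ⟶ Spec R) {B : Alg R}
    (r : Z ⟶ Spec (CommRingCat.of B))
    (h : r ≫ Spec.map (CommRingCat.ofHom (algebraMap R B)) = q) : B ⟶ gAlg q :=
  let φ : (B : Type u) →+* (gAlg q : Type u) := (gam r).hom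
  ConcreteCategory.ofHom (C := Alg R) (X := B) (Y := gAlg q)
    ({ φ with
      commutes' := fun x => by
        change (gam r).hom (algebraMap R B x) = (gam q).hom x
        rw [← h, gam_comp]
        rfl } : (B : Type u) →ₐ[R] (gAlg q : Type u))

lemma gHom_apply {Z : Scheme.{u}} (q : Z ⟶ Spec R) {B : Alg R} (r : Z ⟶ Spec (CommRingCat.of B))
    (h : r ≫ Spec.map (CommRingCat.ofHom (algebraMap R B)) = q) (b : B) :
    (gHom q r h).hom b = (gam r).hom b := rfl

lemma comp_gHom {Z : Scheme.{u}} (q : Z ⟶ Spec R) {B B' : Alg R} (f : B ⟶ B')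
    (r : Z ⟶ Spec (CommRingCat.of B'))
    (h : r ≫ Spec.map (CommRingCat.ofHom (algebraMap R B')) = q) :
    f ≫ gHom q r h = gHom q (r ≫ Spec.map (CommRingCat.ofHom f.hom.toRingHom)) (by
      rw [Category.assoc, ← Spec.map_comp, ← CommRingCat.ofHom_comp]
      exact (congrArg (fun φ => r ≫ Spec.map (CommRingCat.ofHom φ)) f.hom.comp_algebraMap).trans h) := by
  apply CommAlgCat.hom_ext
  refine DFunLike.ext _ _ fun b => ?_
  rw [gHom_apply, gam_comp]
  rfl

lemma gHom_congr {Z : Scheme.{u}} (q : Z ⟶ Spec R) {B : Alg R} {r r' : Z ⟶ Spec (CommRingCat.of B)}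
    (e : r = r') (h : r ≫ Spec.map (CommRingCat.ofHom (algebraMap R B)) = q) :
    gHom q r h = gHom q r' (e ▸ h) := by
  subst e
  rfl

/-- A scheme over an affine scheme maps to the spectrum of its functions. -/
noncomputable def toG {Z : Over S} (q : Z.left ⟶ Spec R) (hq : q ≫ a = Z.hom) :
    Z ⟶ (specOver a).obj (op (gAlg q)) :=
  Over.homMk Z.left.toSpecΓ (by
    change Z.left.toSpecΓ ≫ Spec.map (gam q) ≫ a = Z.hom
    rw [← Category.assoc, toSpecΓ_gam, hq])

lemma toG_comp {Z : Over S} (q : Z.left ⟶ Spec R) (hq : q ≫ a = Z.hom) {B : Alg R}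
    (r : Z ⟶ (specOver a).obj (op B))
    (h : r.left ≫ Spec.map (CommRingCat.ofHom (algebraMap R B)) = q) :
    toG a q hq ≫ (specOver a).map (gHom q r.left h).op = r := by
  apply Over.OverMorphism.ext
  exact toSpecΓ_gam r.left

end

variable {ι : Type} (A' : ι → Type u) [∀ j, CommRing (A' j)] [∀ j, Algebra R (A' j)]

/-- A sheaf of modules glues along the base changes of a covering of the base. -/
theorem glue_of_sheaf (M : BigSite.Mod K S) (a : Spec R ⟶ S)
    (hcov : Sieve.ofArrows (fun j => Spec (CommRingCat.of (A' j)))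
      (fun j => Spec.map (CommRingCat.ofHom (algebraMap R (A' j)))) ∈ K.toGrothendieck (Spec R))
    (B : Alg R) :
    Glue ((toMVF K a).obj M) (fun j => bcr (A' j) B) (fun j => bunit (A' j) B) := by
  let C : ι → Over S := fun j => (specOver a).obj (op (bcr (A' j) B))
  let c : ∀ j, C j ⟶ (specOver a).obj (op B) := fun j => (specOver a).map (bunit (A' j) B).op
  let π : Spec (CommRingCat.of B) ⟶ Spec R := Spec.map (CommRingCat.ofHom (algebraMap R B))
  have hJ : Sieve.ofArrows C c ∈ QuotSh.J K S ((specOver a).obj (op B)) := by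
    rw [GrothendieckTopology.mem_over_iff, Sieve.overEquiv_ofArrows]
    refine GrothendieckTopology.superset_covering _ ?_ (K.toGrothendieck.pullback_stable π hcov)
    intro Z (q : Z ⟶ Spec (CommRingCat.of B)) hq
    obtain ⟨_, l, _, ⟨j⟩, hl⟩ := hq
    let g : B ⟶ gAlg (q ≫ π) := gHom (q ≫ π) q rfl
    let v : A' j →+* (gAlg (q ≫ π) : Type u) := (gam l).hom
    let v' : A' j →ₐ[R] (gAlg (q ≫ π) : Type u) :=
      { v with
        commutes' := fun x => by
          change (gam l).hom (algebraMap R (A' j) x) = (gam (q ≫ π)).hom x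
          refine Eq.trans ?_ (congrArg (fun φ => (gam φ).hom x) hl)
          rw [gam_comp]
          rfl }
    refine ⟨_, Z.toSpecΓ ≫ Spec.map (CommRingCat.ofHom (bcrDesc (A' j) v' g).hom.toRingHom), _, ⟨j⟩, ?_⟩
    change (Z.toSpecΓ ≫ Spec.map (CommRingCat.ofHom (bcrDesc (A' j) v' g).hom.toRingHom)) ≫
      Spec.map (CommRingCat.ofHom (bunit (A' j) B).hom.toRingHom) = q
    rw [Category.assoc, ← Spec.map_comp]
    refine Eq.trans ?_ (toSpecΓ_gam q)
    refine congrArg (fun φ => Z.toSpecΓ ≫ Spec.map φ) ?_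
    ext b
    exact congrArg (fun h : B ⟶ gAlg (q ≫ π) => h.hom b) (unit_bcrDesc (A' j) v' g)
  have hsh : Presieve.IsSheaf (QuotSh.J K S) (M.val.presheaf ⋙ CategoryTheory.forget AddCommGrpCat.{u + 1}) :=
    (isSheaf_iff_isSheaf_of_type _ _).1 ((Presheaf.isSheaf_iff_isSheaf_forget (QuotSh.J K S) M.val.presheaf
      (CategoryTheory.forget AddCommGrpCat.{u + 1})).1 M.isSheaf)
  have hfor := (Presieve.isSheafFor_arrows_iff _ _).1
    ((Presieve.isSheafFor_iff_generate (Presieve.ofArrows C c)).2 (hsh _ hJ))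
  refine ⟨fun x hx => ?_, fun y hy => ?_⟩
  · obtain ⟨t, -, ht⟩ := hfor (fun j => (0 : M.val.obj (op (C j)))) (fun j k Z r r' _ =>
      (map_zero (M.val.map r.op).hom).trans (map_zero (M.val.map r'.op).hom).symm)
    refine (ht x fun j => hx j).trans (ht 0 fun j => ?_).symm
    exact map_zero (M.val.map (c j).op).hom
  · obtain ⟨t, ht, -⟩ := hfor y (fun j k Z r r' hrr => by
      let rj : Z.left ⟶ Spec (CommRingCat.of (bcr (A' j) B)) := r.left
      let rk : Z.left ⟶ Spec (CommRingCat.of (bcr (A' k) B)) := r'.left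
      let q : Z.left ⟶ Spec R := rj ≫ Spec.map (CommRingCat.ofHom (algebraMap R (bcr (A' j) B)))
      have hq : q ≫ a = Z.hom := (Category.assoc _ _ _).trans (Over.w r)
      have hl : rj ≫ Spec.map (CommRingCat.ofHom (bunit (A' j) B).hom.toRingHom) =
          rk ≫ Spec.map (CommRingCat.ofHom (bunit (A' k) B).hom.toRingHom) :=
        congrArg CommaMorphism.left hrr
      have hal : ∀ i, Spec.map (CommRingCat.ofHom (algebraMap R (bcr (A' i) B))) =
          Spec.map (CommRingCat.ofHom (bunit (A' i) B).hom.toRingHom) ≫ π := fun i => by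
        rw [← Spec.map_comp, ← CommRingCat.ofHom_comp]
        exact (congrArg (fun φ => Spec.map (CommRingCat.ofHom φ)) (bunit (A' i) B).hom.comp_algebraMap).symm
      have hq' : rk ≫ Spec.map (CommRingCat.ofHom (algebraMap R (bcr (A' k) B))) = q := by
        change _ = rj ≫ _
        rw [hal, hal, ← Category.assoc, ← hl, Category.assoc]
      have e : bunit (A' j) B ≫ gHom q rj rfl = bunit (A' k) B ≫ gHom q rk hq' := by
        rw [comp_gHom, comp_gHom]
        exact gHom_congr q hl _
      have h := hy j k (gAlg q) (gHom q rj rfl) (gHom q rk hq') e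
      have h' := congrArg (M.val.map (toG a q hq).op) h
      have key : ∀ (i : ι) (s : Z ⟶ C i) (hs : s.left ≫ Spec.map
          (CommRingCat.ofHom (algebraMap R (bcr (A' i) B))) = q),
          M.val.presheaf.map s.op (y i) =
            M.val.map (toG a q hq).op (mp ((toMVF K a).obj M) (gHom q s.left hs) (y i)) := fun i s hs => by
        conv_lhs => rw [← toG_comp a q hq s hs, op_comp, Functor.map_comp]
        rfl
      exact (key j r rfl).trans (h'.trans (key k r' hq').symm))
    exact ⟨t, fun j => ht j⟩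

end Groth.Agent.H02CA.Adq
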