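import Groth.Agent.H02CA.Adeq.Big.Nerve
import Mathlib.Algebra.Category.Grp.Adjunctions
import Mathlib.CategoryTheory.Abelian.FunctorCategory
import Mathlib.Algebra.Homology.ShortComplex.Ab
import Mathlib.CategoryTheory.Preadditive.Injective.Basic
import Mathlib.CategoryTheory.Sites.Sheafification
import Mathlib.CategoryTheory.Sites.LeftExact
import Mathlib.Algebra.Category.Grp.AB
import Mathlib.Algebra.Category.Grp.FilteredColimits

/-!
# Injective presheaves are acyclic on nerves
-/

set_option autoImplicit false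
set_option linter.style.haveILetI false

universe u

open CategoryTheory Opposite Limits TensorProduct AlgebraicGeometry

namespace Groth.Agent.H02CA.Adq

open Adeq
open Groth.Agent.H13Desc

/-- Exactness in a category of functors is checked value by value. -/
theorem exact_of_app {C : Type*} [Category C] {D : Type*} [Category D] [Abelian D]
    (T : ShortComplex (C ⥤ D)) (h : ∀ X, (T.map ((evaluation C D).obj X)).Exact) : T.Exact := by
  rw [ShortComplex.exact_iff_isZero_homology]
  refine Functor.isZero _ fun X => ?_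
  exact ((ShortComplex.exact_iff_isZero_homology _).1 (h X)).of_iso
    (T.mapHomologyIso ((evaluation C D).obj X)).symm

lemma app_of_comp {C : Type*} [Category C] {F G H : C ⥤ AddCommGrpCat.{u + 1}} {α : F ⟶ G} {β : G ⟶ H}
    {γ : F ⟶ H} (h : α ≫ β = γ) (X : C) (x : F.obj X) : β.app X (α.app X x) = γ.app X x :=
  ConcreteCategory.congr_hom (congrArg (fun m => NatTrans.app m X) h) x

variable {S : Scheme.{u}} {R : CommRingCat.{u}} (a : Spec R ⟶ S) (A : Type u) [CommRing A] [Algebra R A]

/-- The free presheaf on a nerve term. -/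
noncomputable def freeOn (k : ℕ) : (Over S)ᵒᵖ ⥤ AddCommGrpCat.{u + 1} :=
  uliftYoneda.{u + 1}.obj (nerveObj a A k) ⋙ AddCommGrpCat.free.{u + 1}

/-- A generator. -/
noncomputable def genOf {k : ℕ} {V : Over S} (t : V ⟶ nerveObj a A k) : (freeOn a A k).obj (op V) :=
  FreeAbelianGroup.of (ULift.up t)

lemma freeOn_map {k : ℕ} {V W : Over S} (g : W ⟶ V) (t : V ⟶ nerveObj a A k) :
    (freeOn a A k).map g.op (genOf a A t) = genOf a A (g ≫ t) :=
  FreeAbelianGroup.map_of_apply _

lemma freeOn_hom_ext {k : ℕ} {V : Over S} {M : Type*} [AddCommGroup M]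
    {f g : ((freeOn a A k).obj (op V)) →+ M} (h : ∀ t, f (genOf a A t) = g (genOf a A t)) : f = g :=
  FreeAbelianGroup.lift_ext _ _ fun t => h t.down

/-- The boundary. -/
noncomputable def freeD (k : ℕ) : freeOn a A (k + 1) ⟶ freeOn a A k :=
  ∑ i : Fin (k + 2), (-1 : ℤ) ^ (i : ℕ) • Functor.whiskerRight (uliftYoneda.{u + 1}.map (face a A k i)) AddCommGrpCat.free.{u + 1}

lemma freeD_gen (k : ℕ) {V : Over S} (t : V ⟶ nerveObj a A (k + 1)) :
    (freeD a A k).app (op V) (genOf a A t) =
      ∑ i : Fin (k + 2), (-1 : ℤ) ^ (i : ℕ) • genOf a A (t ≫ face a A k i) := by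
  rw [freeD, NatTrans.app_sum, hom_sum_apply']
  refine Finset.sum_congr rfl fun i _ => ?_
  exact congrArg (fun z : (freeOn a A k).obj (op V) => (-1 : ℤ) ^ (i : ℕ) • z) (FreeAbelianGroup.map_of_apply _)

lemma freeD_comp (k : ℕ) : freeD a A (k + 1) ≫ freeD a A k = 0 :=
  AlgebraicTopology.AlternatingFaceMapComplex.d_squared
    (nerve a A ⋙ uliftYoneda.{u + 1} ⋙
      (Functor.whiskeringRight _ _ AddCommGrpCat.{u + 1}).obj AddCommGrpCat.free.{u + 1} :
      SimplicialObject ((Over S)ᵒᵖ ⥤ AddCommGrpCat.{u + 1})) k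

/-- The free complex. -/
noncomputable abbrev freeCx (k : ℕ) : ShortComplex ((Over S)ᵒᵖ ⥤ AddCommGrpCat.{u + 1}) :=
  ShortComplex.mk (freeD a A (k + 1)) (freeD a A k) (freeD_comp a A k)

/-- The free complex is exact in positive degrees. -/
theorem freeCx_exact (k : ℕ) : (freeCx a A k).Exact := by
  classical
  refine exact_of_app _ fun V => ?_
  rw [ShortComplex.ab_exact_iff]
  intro x (hx : (freeD a A k).app V x = 0)
  obtain ⟨V⟩ := V
  let σ : (V.left ⟶ Spec R) → Option (V ⟶ (specOver a).obj (op (algOf R A))) := fun q =>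
    if h : ∃ s : V ⟶ (specOver a).obj (op (algOf R A)),
      s.left ≫ Spec.map (CommRingCat.ofHom (algebraMap R A)) = q then some h.choose else none
  have hσ : ∀ (n : ℕ) (t : V ⟶ nerveObj a A n), ∃ s, σ (t.left ≫ nerveBase a A n) = some s ∧
      s.left ≫ Spec.map (CommRingCat.ofHom (algebraMap R A)) = t.left ≫ nerveBase a A n := by
    intro n t
    have h : ∃ s : V ⟶ (specOver a).obj (op (algOf R A)),
        s.left ≫ Spec.map (CommRingCat.ofHom (algebraMap R A)) = t.left ≫ nerveBase a A n :=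
      ⟨t ≫ nervePr a A n 0, (Category.assoc _ _ _).trans (congrArg (t.left ≫ ·) (nervePr_base a A n 0))⟩
    exact ⟨h.choose, dif_pos h, h.choose_spec⟩
  choose s hsσ hs using hσ
  have hcons : ∀ (n : ℕ) (t : V ⟶ nerveObj a A n), ∃ m : V ⟶ nerveObj a A (n + 1),
      (∀ j, m ≫ nervePr a A (n + 1) j = (Fin.cons (s n t) (fun j => t ≫ nervePr a A n j) :
        Fin (n + 2) → (V ⟶ (specOver a).obj (op (algOf R A)))) j) ∧
      m.left ≫ nerveBase a A (n + 1) = t.left ≫ nerveBase a A n := by
    intro n t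
    refine exists_nerve_lift a A (t.left ≫ nerveBase a A n) ?_ _ fun j => ?_
    · exact (Category.assoc _ _ _).trans (Over.w t)
    · refine Fin.cases ?_ (fun j => ?_) j
      · exact hs n t
      · exact (Category.assoc _ _ _).trans (congrArg (t.left ≫ ·) (nervePr_base a A n j))
  choose c hc hcb using hcons
  let h : ∀ n : ℕ, ((freeOn a A n).obj (op V)) →+ ((freeOn a A (n + 1)).obj (op V)) := fun n =>
    FreeAbelianGroup.lift fun t => genOf a A (c n t.down)
  have hh : ∀ (n : ℕ) (t : V ⟶ nerveObj a A n), h n (genOf a A t) = genOf a A (c n t) := fun n t =>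
    FreeAbelianGroup.lift_apply_of _ _
  have h0 : ∀ (n : ℕ) (t : V ⟶ nerveObj a A n), c n t ≫ face a A n 0 = t := fun n t =>
    nerve_ext a A fun j => by
      rw [Category.assoc, nerveMap_pr, hc, Fin.succAbove_zero, Fin.cons_succ]
  have hsucc : ∀ (n : ℕ) (t : V ⟶ nerveObj a A (n + 1)) (i : Fin (n + 2)),
      c (n + 1) t ≫ face a A (n + 1) i.succ = c n (t ≫ face a A n i) := fun n t i =>
    nerve_ext a A fun j => by
      rw [Category.assoc, nerveMap_pr, hc, hc]
      refine Fin.cases ?_ (fun j => ?_) j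
      · rw [Fin.succ_succAbove_zero, Fin.cons_zero, Fin.cons_zero]
        have e : t.left ≫ nerveBase a A (n + 1) = (t ≫ face a A n i).left ≫ nerveBase a A n :=
          ((Category.assoc _ _ _).trans (congrArg (t.left ≫ ·) (nerveMap_base a A i.succAbove))).symm
        exact Option.some.inj ((hsσ (n + 1) t).symm.trans ((congrArg σ e).trans (hsσ n _)))
      · rw [Fin.succ_succAbove_succ, Fin.cons_succ, Fin.cons_succ, Category.assoc, nerveMap_pr]
  have key : ∀ y : (freeOn a A (k + 1)).obj (op V),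
      (freeD a A (k + 1)).app (op V) (h (k + 1) y) + h k ((freeD a A k).app (op V) y) = y := by
    refine DFunLike.congr_fun (f := ((freeD a A (k + 1)).app (op V)).hom.comp (h (k + 1)) +
      (h k).comp ((freeD a A k).app (op V)).hom) (g := AddMonoidHom.id _) (freeOn_hom_ext a A fun t => ?_)
    change (freeD a A (k + 1)).app (op V) (h (k + 1) (genOf a A t)) +
      h k ((freeD a A k).app (op V) (genOf a A t)) = genOf a A t
    rw [hh, freeD_gen, freeD_gen, map_sum, Fin.sum_univ_succ, h0, Fin.val_zero, pow_zero, one_smul, add_assoc,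
      ← Finset.sum_add_distrib, Finset.sum_eq_zero (fun i _ => ?_), add_zero]
    rw [map_zsmul, hh, hsucc, Fin.val_succ, pow_succ, ← add_smul, mul_neg_one, neg_add_cancel, zero_smul]
  refine ⟨h (k + 1) x, ?_⟩
  have := key x
  rw [hx, map_zero, add_zero] at this
  exact this

/-- A section as a map out of the free presheaf. -/
noncomputable def chiOf (I : (Over S)ᵒᵖ ⥤ AddCommGrpCat.{u + 1}) (k : ℕ) (x : I.obj (op (nerveObj a A k))) :
    freeOn a A k ⟶ I :=
  (((AddCommGrpCat.adj.{u + 1}).whiskerRight (Over S)ᵒᵖ).homEquiv (uliftYoneda.{u + 1}.obj (nerveObj a A k)) I).symm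
    (uliftYonedaEquiv.symm x)

lemma chiOf_gen (I : (Over S)ᵒᵖ ⥤ AddCommGrpCat.{u + 1}) (k : ℕ) (x : I.obj (op (nerveObj a A k)))
    {V : Over S} (t : V ⟶ nerveObj a A k) : (chiOf a A I k x).app (op V) (genOf a A t) = I.map t.op x :=
  FreeAbelianGroup.lift_apply_of _ _

/-- Injective presheaves are acyclic on nerves. -/
theorem nerveExact_of_injective (I : (Over S)ᵒᵖ ⥤ AddCommGrpCat.{u + 1}) [Injective I] :
    NerveExact a A I := by
  intro k x hx
  generalize hdef : chiOf a A I (k + 1) x = χ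
  have hχ : ∀ {V : Over S} (t : V ⟶ nerveObj a A (k + 1)), χ.app (op V) (genOf a A t) = I.map t.op x := fun t =>
    hdef ▸ chiOf_gen a A I (k + 1) x t
  have hz : freeD a A (k + 1) ≫ χ = 0 := by
    refine NatTrans.ext (funext fun V => ?_)
    obtain ⟨V⟩ := V
    refine AddCommGrpCat.hom_ext (freeOn_hom_ext a A fun t => ?_)
    change χ.app (op V) ((freeD a A (k + 1)).app (op V) (genOf a A t)) = 0
    rw [freeD_gen, map_sum]
    have e := congrArg (I.map t.op) hx
    rw [nerveD_apply, map_sum, map_zero] at e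
    refine Eq.trans (Finset.sum_congr rfl fun i _ => ?_) e
    rw [map_zsmul, map_zsmul, hχ]
    exact congrArg _ (ConcreteCategory.congr_hom (I.map_comp (face a A (k + 1) i).op t.op) x)
  obtain ⟨ψ, hψ⟩ : ∃ ψ : freeOn a A k ⟶ I, freeD a A k ≫ ψ = χ :=
    ⟨_, (freeCx_exact a A k).comp_descToInjective χ hz⟩
  refine ⟨ψ.app (op (nerveObj a A k)) (genOf a A (𝟙 (nerveObj a A k))), ?_⟩
  have h1 : χ.app (op (nerveObj a A (k + 1))) (genOf a A (𝟙 (nerveObj a A (k + 1)))) = x :=
    (hχ (𝟙 _)).trans (ConcreteCategory.congr_hom (I.map_id (op (nerveObj a A (k + 1)))) x)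
  have h2 : ψ.app (op (nerveObj a A (k + 1))) ((freeD a A k).app _ (genOf a A (𝟙 (nerveObj a A (k + 1))))) = x :=
    (app_of_comp hψ (op (nerveObj a A (k + 1))) (genOf a A (𝟙 (nerveObj a A (k + 1))))).trans h1
  rw [freeD_gen, map_sum] at h2
  refine Eq.trans ?_ h2
  rw [nerveD_apply]
  refine Finset.sum_congr rfl fun i _ => ?_
  rw [map_zsmul]
  refine congrArg (fun z : I.obj (op (nerveObj a A (k + 1))) => (-1 : ℤ) ^ (i : ℕ) • z)
    ((NatTrans.naturality_apply ψ (face a A k i).op (genOf a A (𝟙 (nerveObj a A k)))).symm.trans ?_)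
  rw [freeOn_map, Category.comp_id, Category.id_comp]

/-- Injective sheaves are acyclic on nerves. -/
theorem nerveExact_of_injective_sheaf {J : GrothendieckTopology (Over S)}
    [HasSheafify J AddCommGrpCat.{u + 1}] (I : Sheaf J AddCommGrpCat.{u + 1}) [Injective I] :
    NerveExact a A I.obj :=
  haveI : Injective I.obj :=
    Injective.injective_of_adjoint (sheafificationAdjunction J AddCommGrpCat.{u + 1}) I
  nerveExact_of_injective a A I.obj

end Groth.Agent.H02CA.Adq
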