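import Mathlib.CategoryTheory.Functor.KanExtension.Adjunction
import Mathlib.CategoryTheory.Functor.Flat
import Mathlib.CategoryTheory.Sites.Pullback
import Mathlib.Algebra.Category.Grp.AB
import Mathlib.CategoryTheory.Limits.Final

/-!
# Left Kan extensions of monomorphisms
-/

set_option autoImplicit false
set_option linter.style.haveILetI false

universe u

open CategoryTheory CategoryTheory.Limits Opposite

namespace Groth.Agent.H02CA.Adq.LanMono

noncomputable instance : HasFilteredColimitsOfSize.{u, u} AddCommGrpCat.{u + 1} :=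
  hasFilteredColimitsOfSize_of_univLE.{u, u, u + 1, u + 1}

theorem ab5 : AB5OfSize.{u, u} AddCommGrpCat.{u + 1} :=
  AB5OfSize_of_univLE.{u, u, u + 1, u + 1} AddCommGrpCat.{u + 1}

theorem preservesMonomorphisms_lan_of_colim {C : Type u} [Category.{u} C] {D : Type (u + 1)} [Category.{u} D] (F : C ⥤ D)
    (h : ∀ (Z : D) (P Q : C ⥤ AddCommGrpCat.{u + 1}) (φ : P ⟶ Q) [Mono φ],
      Mono (colim.map (Functor.whiskerLeft (CostructuredArrow.proj F Z) φ))) :
    (F.lan : (C ⥤ AddCommGrpCat.{u + 1}) ⥤ _).PreservesMonomorphisms := by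
  refine ⟨fun {P Q} φ hφ => ?_⟩
  haveI : ∀ Z, Mono ((F.lan.map φ).app Z) := fun Z => by
    let hP : IsColimit ((Functor.LeftExtension.mk (F.leftKanExtension P) (F.leftKanExtensionUnit P)).coconeAt Z) := F.isPointwiseLeftKanExtensionLeftKanExtensionUnit P Z
    let hQ : IsColimit ((Functor.LeftExtension.mk (F.leftKanExtension Q) (F.leftKanExtensionUnit Q)).coconeAt Z) := F.isPointwiseLeftKanExtensionLeftKanExtensionUnit Q Z
    let eP := hP.coconePointUniqueUpToIso (colimit.isColimit _)
    let eQ := hQ.coconePointUniqueUpToIso (colimit.isColimit _)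
    have key : (F.lan.map φ).app Z ≫ eQ.hom = eP.hom ≫ colim.map (Functor.whiskerLeft (CostructuredArrow.proj F Z) φ) := by
      refine hP.hom_ext fun T => ?_
      have hη : ∀ x : C, (F.leftKanExtensionUnit P).app x ≫ (F.lan.map φ).app (F.obj x) = φ.app x ≫ (F.leftKanExtensionUnit Q).app x :=
        fun x => (F.leftKanExtension P).descOfIsLeftKanExtension_fac_app (F.leftKanExtensionUnit P) (F.leftKanExtension Q) (φ ≫ F.leftKanExtensionUnit Q) x
      have eP1 := hP.comp_coconePointUniqueUpToIso_hom (colimit.isColimit _) T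
      have eQ1 := hQ.comp_coconePointUniqueUpToIso_hom (colimit.isColimit _) T
      have nat : (F.leftKanExtension P).map T.hom ≫ (F.lan.map φ).app Z =
          (F.lan.map φ).app (F.obj T.left) ≫ (F.leftKanExtension Q).map T.hom := (F.lan.map φ).naturality T.hom
      have c0 : (((F.leftKanExtensionUnit P).app T.left ≫ (F.leftKanExtension P).map T.hom) ≫ ((F.lan.map φ).app Z ≫ eQ.hom)) = ((F.leftKanExtensionUnit P).app T.left ≫ ((F.leftKanExtension P).map T.hom ≫ (F.lan.map φ).app Z)) ≫ eQ.hom := by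
        simp only [Category.assoc]
      have c1 : ((F.leftKanExtensionUnit P).app T.left ≫ ((F.leftKanExtension P).map T.hom ≫ (F.lan.map φ).app Z)) ≫ eQ.hom = (((F.leftKanExtensionUnit P).app T.left ≫ (F.lan.map φ).app (F.obj T.left)) ≫ (F.leftKanExtension Q).map T.hom) ≫ eQ.hom :=            (congrArg (fun q => ((F.leftKanExtensionUnit P).app T.left ≫ q) ≫ eQ.hom) nat).trans (congrArg (fun q => q ≫ eQ.hom) (Category.assoc _ _ _).symm)
      have c2 : (((F.leftKanExtensionUnit P).app T.left ≫ (F.lan.map φ).app (F.obj T.left)) ≫ (F.leftKanExtension Q).map T.hom) ≫ eQ.hom = φ.app T.left ≫ (((F.leftKanExtensionUnit Q).app T.left ≫ (F.leftKanExtension Q).map T.hom) ≫ eQ.hom) :=            (congrArg (fun q => (q ≫ (F.leftKanExtension Q).map T.hom) ≫ eQ.hom) (hη T.left)).trans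
              ((congrArg (fun q => q ≫ eQ.hom) (Category.assoc _ _ _)).trans (Category.assoc _ _ _))
      have c3 : φ.app T.left ≫ (((F.leftKanExtensionUnit Q).app T.left ≫ (F.leftKanExtension Q).map T.hom) ≫ eQ.hom) = φ.app T.left ≫ colimit.ι (CostructuredArrow.proj F Z ⋙ Q) T := congrArg (fun q => φ.app T.left ≫ q) eQ1
      have c4 : φ.app T.left ≫ colimit.ι (CostructuredArrow.proj F Z ⋙ Q) T = colimit.ι (CostructuredArrow.proj F Z ⋙ P) T ≫ colim.map (Functor.whiskerLeft (CostructuredArrow.proj F Z) φ) :=            (ι_colimMap (Functor.whiskerLeft (CostructuredArrow.proj F Z) φ) T).symm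
      have c5 : colimit.ι (CostructuredArrow.proj F Z ⋙ P) T ≫ colim.map (Functor.whiskerLeft (CostructuredArrow.proj F Z) φ) = ((F.leftKanExtensionUnit P).app T.left ≫ (F.leftKanExtension P).map T.hom) ≫ eP.hom ≫ colim.map (Functor.whiskerLeft (CostructuredArrow.proj F Z) φ) :=            (congrArg (fun q => q ≫ colim.map (Functor.whiskerLeft (CostructuredArrow.proj F Z) φ)) eP1.symm).trans (Category.assoc _ _ _)
      exact Eq.trans (Eq.trans (Eq.trans (Eq.trans (Eq.trans (c0) c1) c2) c3) c4) c5
    haveI := h Z P Q φ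
    have : Mono ((F.lan.map φ).app Z ≫ eQ.hom) := by rw [key]; exact @mono_comp _ _ _ _ _ eP.hom inferInstance _ this
    exact mono_of_mono _ eQ.hom
  exact NatTrans.mono_of_mono_app _


end Groth.Agent.H02CA.Adq.LanMono
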