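import Groth.Agent.H02CA.Adeq.Big.Compare
import Mathlib.AlgebraicGeometry.Morphisms.UniversallyOpen
import Mathlib.AlgebraicGeometry.Sites.Fpqc

/-!
# Adequacy is local
-/

set_option autoImplicit false
set_option linter.style.haveILetI false

universe w u

open CategoryTheory Opposite Limits TensorProduct AlgebraicGeometry MorphismProperty

namespace Groth.Agent.H02CA.Adq

open Adeq

variable (P : MorphismProperty Scheme.{u})

/-- Conditions on the morphisms of coverings. -/
class GoodCov : Prop where
  baseChange : P.IsStableUnderBaseChange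
  comp : P.IsStableUnderComposition
  openImmersion : ∀ {X Y : Scheme.{u}} (f : X ⟶ Y), IsOpenImmersion f → P f
  isOpenMap : ∀ {X Y : Scheme.{u}} (f : X ⟶ Y), P f → IsOpenMap f

instance : GoodCov (@Flat ⊓ @LocallyOfFinitePresentation : MorphismProperty Scheme.{u}) where
  baseChange := inferInstance
  comp := inferInstance
  openImmersion f hf := by
    haveI := hf
    exact ⟨inferInstance, inferInstance⟩
  isOpenMap f hf := by
    haveI : Flat f := hf.1
    haveI : LocallyOfFinitePresentation f := hf.2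
    exact f.isOpenMap

instance : GoodCov (@IsOpenImmersion : MorphismProperty Scheme.{u}) where
  baseChange := inferInstance
  comp := inferInstance
  openImmersion _ hf := hf
  isOpenMap f hf := by
    haveI := hf
    exact f.isOpenMap

variable {P} [GoodCov P]

/-- A covering of an affine scheme has a finite refinement by affine schemes. -/
theorem exists_refinement {S : Scheme.{u}} {κ : Type w} {T : κ → Scheme.{u}} (t : ∀ i, T i ⟶ S)
    (hcov : Presieve.ofArrows T t ∈ (Scheme.precoverage P).coverings S) {R : CommRingCat.{u}} (a : Spec R ⟶ S) :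
    ∃ (n : ℕ) (R' : Fin n → CommRingCat.{u}) (b : ∀ j, Spec (R' j) ⟶ Spec R) (i : Fin n → κ)
      (c : ∀ j, Spec (R' j) ⟶ T (i j)),
      (∀ j, c j ≫ t (i j) = b j ≫ a) ∧
        Presieve.ofArrows (fun j => Spec (R' j)) b ∈ (Scheme.precoverage P).coverings (Spec R) := by
  classical
  obtain ⟨hsurj, ht⟩ := (Scheme.ofArrows_mem_precoverage_iff P).1 hcov
  haveI := GoodCov.baseChange (P := P)
  haveI := GoodCov.comp (P := P)
  have hpt : ∀ x : (Spec R : Scheme.{u}), ∃ (R'' : CommRingCat.{u}) (b : Spec R'' ⟶ Spec R) (i : κ)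
      (c : Spec R'' ⟶ T i), c ≫ t i = b ≫ a ∧ P b ∧ x ∈ Set.range b := by
    intro x
    obtain ⟨i, s, hs⟩ := hsurj (a x)
    obtain ⟨z, hz, -⟩ := Scheme.Pullback.exists_preimage_pullback (f := a) (g := t i) x s hs.symm
    obtain ⟨_, ⟨V, hV, rfl⟩, hzV, -⟩ := (pullback a (t i)).isBasis_affineOpens.exists_subset_of_mem_open
      (Set.mem_univ z) isOpen_univ
    refine ⟨Γ(pullback a (t i), V), hV.fromSpec ≫ pullback.fst a (t i), i, hV.fromSpec ≫ pullback.snd a (t i),
      ?_, ?_, ?_⟩
    · rw [Category.assoc, Category.assoc, pullback.condition]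
    · exact P.comp_mem _ _ (GoodCov.openImmersion _ inferInstance) (P.pullback_fst a (t i) (ht i))
    · obtain ⟨w, hw⟩ : z ∈ Set.range hV.fromSpec := by rw [hV.range_fromSpec]; exact hzV
      exact ⟨w, by rw [Scheme.Hom.comp_apply, hw, hz]⟩
  choose R'' b i c hc hb hx using hpt
  obtain ⟨σ, hσ⟩ := isCompact_univ.elim_finite_subcover (fun x : (Spec R : Scheme.{u}) => Set.range (b x))
    (fun x => (GoodCov.isOpenMap (b x) (hb x)).isOpen_range) (fun x _ => Set.mem_iUnion.2 ⟨x, hx x⟩)
  refine ⟨σ.card, fun j => R'' (σ.equivFin.symm j).1, fun j => b (σ.equivFin.symm j).1,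
    fun j => i (σ.equivFin.symm j).1, fun j => c (σ.equivFin.symm j).1, fun j => hc _, ?_⟩
  refine (Scheme.ofArrows_mem_precoverage_iff P).2 ⟨fun x => ?_, fun j => hb _⟩
  obtain ⟨y, hy, hxy⟩ := Set.mem_iUnion₂.1 (hσ (Set.mem_univ x))
  refine ⟨σ.equivFin ⟨y, hy⟩, ?_⟩
  change x ∈ Set.range (b (σ.equivFin.symm (σ.equivFin ⟨y, hy⟩)).1)
  have e : (σ.equivFin.symm (σ.equivFin ⟨y, hy⟩)).1 = y := congrArg Subtype.val (Equiv.symm_apply_apply _ _)
  exact e.symm ▸ hxy

variable [BigSite.OSh (Scheme.precoverage P)] {S : Scheme.{u}}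

/-- Adequate at every affine object. -/
def AllAdeq {K : Precoverage Scheme.{u}} [BigSite.OSh K] (M : BigSite.Mod K S) : Prop :=
  ∀ (R : CommRingCat.{u}) (a : Spec R ⟶ S), adequate R ((toMVF K a).obj M)

/-- Adequate modules are adequate at every affine object. -/
theorem allAdeq_of_adequateMod {M : BigSite.Mod (Scheme.precoverage P) S}
    (hM : adequateMod (Scheme.precoverage P) S M) : AllAdeq M := by
  intro R a
  obtain ⟨κ, R₀, a₀, hcov, hadq⟩ := hM
  obtain ⟨n, R', b, i, c, hc, hcov'⟩ := exists_refinement a₀ hcov a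
  have hgen := Precoverage.generate_mem_toGrothendieck hcov'
  letI : ∀ j, Algebra R (R' j) := fun j => (Spec.preimage (b j)).hom.toAlgebra
  have hb : ∀ j, algMap' R (R' j) = b j := fun j => Spec.map_preimage (b j)
  refine adequate_of_family (fun j => (R' j : Type u)) _ (fun j => ?_) (glue_of_sheaf _ M a ?_)
  · refine adequate_restr_toMVFPre R (R' j) a M.val ?_
    exact adequate_toMVFPre_of_hom (a₀ (i j)) _ (c j) ((hc j).trans (congrArg (· ≫ a) (hb j).symm)) M.val
      (hadq (i j))
  · have e : (fun j => Spec.map (CommRingCat.ofHom (algebraMap R (R' j)))) = b := funext hb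
    exact e ▸ hgen

/-- A module adequate at every affine object is adequate. -/
theorem adequateMod_of_allAdeq {M : BigSite.Mod (Scheme.precoverage P) S} (h : AllAdeq M) :
    adequateMod (Scheme.precoverage P) S M := by
  refine ⟨S.affineOpens, fun U => Γ(S, U.1), fun U => U.2.fromSpec,
    (Scheme.ofArrows_mem_precoverage_iff P).2 ⟨fun x => ?_, fun U => GoodCov.openImmersion _ inferInstance⟩,
    fun U => h _ _⟩
  obtain ⟨_, ⟨V, hV, rfl⟩, hxV, -⟩ := S.isBasis_affineOpens.exists_subset_of_mem_open (Set.mem_univ x) isOpen_univ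
  exact ⟨⟨V, hV⟩, by rw [hV.range_fromSpec]; exact hxV⟩

theorem adequateMod_iff {M : BigSite.Mod (Scheme.precoverage P) S} :
    adequateMod (Scheme.precoverage P) S M ↔ AllAdeq M :=
  ⟨allAdeq_of_adequateMod, adequateMod_of_allAdeq⟩

/-- Pullbacks of adequate modules. -/
theorem adequateMod_pull {T : Scheme.{u}} (f : T ⟶ S) {M : BigSite.Mod (Scheme.precoverage P) S}
    (hM : adequateMod (Scheme.precoverage P) S M) :
    adequateMod (Scheme.precoverage P) T ((BigSite.pullMod (Scheme.precoverage P) f).obj M) :=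
  adequateMod_of_allAdeq fun R a => (adequate_pull_iff f a M).2 (allAdeq_of_adequateMod hM R (a ≫ f))

/-- Adequacy descends along coverings. -/
theorem adequateMod_of_cover {M : BigSite.Mod (Scheme.precoverage P) S} {κ : Type u} {T : κ → Scheme.{u}}
    (t : ∀ i, T i ⟶ S) (hcov : Presieve.ofArrows T t ∈ (Scheme.precoverage P).coverings S)
    (h : ∀ i, adequateMod (Scheme.precoverage P) (T i)
      ((BigSite.pullMod (Scheme.precoverage P) (t i)).obj M)) :
    adequateMod (Scheme.precoverage P) S M := by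
  obtain ⟨hsurj, ht⟩ := (Scheme.ofArrows_mem_precoverage_iff P).1 hcov
  haveI := GoodCov.comp (P := P)
  choose ι R a hc hadq using h
  refine ⟨Σ i, ι i, fun p => R p.1 p.2, fun p => a p.1 p.2 ≫ t p.1,
    (Scheme.ofArrows_mem_precoverage_iff P).2 ⟨fun x => ?_, fun p => ?_⟩,
    fun p => (adequate_pull_iff (t p.1) (a p.1 p.2) M).1 (hadq p.1 p.2)⟩
  · obtain ⟨i, y, rfl⟩ := hsurj x
    obtain ⟨j, z, rfl⟩ := ((Scheme.ofArrows_mem_precoverage_iff P).1 (hc i)).1 y
    exact ⟨⟨i, j⟩, z, by rw [Scheme.Hom.comp_apply]⟩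
  · exact P.comp_mem _ _ (((Scheme.ofArrows_mem_precoverage_iff P).1 (hc p.1)).2 p.2) (ht p.1)

/-- Kernels of adequate modules. -/
theorem adequateMod_kernel {M N : BigSite.Mod (Scheme.precoverage P) S} (φ : M ⟶ N)
    (hM : adequateMod (Scheme.precoverage P) S M) (hN : adequateMod (Scheme.precoverage P) S N) :
    adequateMod (Scheme.precoverage P) S (kernel φ) := by
  refine adequateMod_of_allAdeq fun R a => ?_
  obtain ⟨e⟩ := nonempty_iso_kernel ((toMVF (Scheme.precoverage P) a).map (kernel.ι φ))
    ((toMVF (Scheme.precoverage P) a).map φ)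
    (by rw [← Functor.map_comp, kernel.condition, Functor.map_zero])
    (fun B => by
      have hm : Mono ((SheafOfModules.forget _ ⋙
          PresheafOfModules.evaluation _ (op ((specOver a).obj (op B)))).map (kernel.ι φ)) := inferInstance
      have hi := (ModuleCat.mono_iff_injective _).1 hm
      exact fun x y h => hi h)
    (fun B x hx => by
      have hS : (ShortComplex.mk (kernel.ι φ) φ (kernel.condition φ)).Exact :=
        ShortComplex.exact_of_f_is_kernel _ (kernelIsKernel φ)
      haveI : Mono (ShortComplex.mk (kernel.ι φ) φ (kernel.condition φ)).f := inferInstanceAs (Mono (kernel.ι φ))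
      exact (ShortComplex.moduleCat_exact_iff _).1
        (hS.map_of_mono_of_preservesKernel (SheafOfModules.forget _ ⋙
          PresheafOfModules.evaluation _ (op ((specOver a).obj (op B)))) inferInstance inferInstance) x hx)
  exact (adequate R).prop_of_iso e.symm
    (adequate_kernel _ (allAdeq_of_adequateMod hM R a) (allAdeq_of_adequateMod hN R a))

end Groth.Agent.H02CA.Adq
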