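import Groth.Agent.H02CA.Adeq.Big.Affine
import Mathlib.AlgebraicTopology.AlternatingFaceMapComplex
import Mathlib.AlgebraicTopology.SimplicialObject.Basic

/-!
# The nerve of a map of affine schemes over a base
-/

set_option autoImplicit false
set_option linter.style.haveILetI false

universe v u

open CategoryTheory Opposite Limits TensorProduct AlgebraicGeometry

namespace Groth.Agent.H02CA.Adq

open Adeq
open Groth.Agent.H13Desc

variable {S : Scheme.{u}} {R : CommRingCat.{u}} (a : Spec R ⟶ S) (A : Type u) [CommRing A] [Algebra R A]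

/-- The terms of the nerve. -/
noncomputable abbrev nerveObj (k : ℕ) : Over S := (specOver a).obj (op (amAlg (R := R) A k))

/-- The slots of a tensor power as maps of algebras. -/
noncomputable def ιAlg (k : ℕ) (j : Fin (k + 1)) : algOf R A ⟶ amAlg (R := R) A k :=
  CommAlgCat.ofHom { (Amitsur.ι R A k j).hom with commutes' := Amitsur.ι_algebraMap R A k j }

/-- The projections of the nerve. -/
noncomputable def nervePr (k : ℕ) (j : Fin (k + 1)) : nerveObj a A k ⟶ (specOver a).obj (op (algOf R A)) :=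
  (specOver a).map (ιAlg (R := R) A k j).op

/-- The projection to the spectrum of the base. -/
noncomputable abbrev nerveBase (k : ℕ) : (nerveObj a A k).left ⟶ Spec R :=
  Spec.map (CommRingCat.ofHom (algebraMap R (Amitsur.Y R A k)))

lemma nervePr_base (k : ℕ) (j : Fin (k + 1)) :
    (nervePr a A k j).left ≫ Spec.map (CommRingCat.ofHom (algebraMap R A)) = nerveBase a A k := by
  change Spec.map _ ≫ Spec.map _ = Spec.map _
  rw [← Spec.map_comp]
  exact congrArg Spec.map (CommRingCat.hom_ext (RingHom.ext (Amitsur.ι_algebraMap R A k j)))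

/-- Maps into the nerve are determined by their projections. -/
theorem nerve_ext {k : ℕ} {V : Over S} {m m' : V ⟶ nerveObj a A k}
    (h : ∀ j, m ≫ nervePr a A k j = m' ≫ nervePr a A k j) : m = m' := by
  apply Over.OverMorphism.ext
  rw [← toSpecΓ_gam m.left, ← toSpecΓ_gam m'.left]
  refine congrArg (fun φ => V.left.toSpecΓ ≫ Spec.map φ) ?_
  have hl : ∀ j, m.left ≫ Spec.map (Amitsur.ι R A k j) = m'.left ≫ Spec.map (Amitsur.ι R A k j) := fun j =>
    congrArg CommaMorphism.left (h j)
  refine WidePushout.hom_ext _ _ _ (fun j => ?_) ?_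
  · exact (gam_comp m.left _).symm.trans ((congrArg gam (hl j)).trans (gam_comp m'.left _))
  · have he : Amitsur.ι R A k 0 = Amitsur.ι R A k 0 := rfl
    refine (gam_comp m.left (CommRingCat.ofHom (algebraMap R (Amitsur.Y R A k)))).symm.trans
      (Eq.trans (congrArg gam ?_) (gam_comp m'.left (CommRingCat.ofHom (algebraMap R (Amitsur.Y R A k)))))
    have hb : ∀ n : V.left ⟶ (nerveObj a A k).left, n ≫ nerveBase a A k =
        (n ≫ Spec.map (Amitsur.ι R A k 0)) ≫ Spec.map (CommRingCat.ofHom (algebraMap R A)) := fun n => by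
      rw [Category.assoc]
      exact congrArg (n ≫ ·) (nervePr_base a A k 0).symm
    exact (hb m.left).trans ((congrArg (· ≫ _) (hl 0)).trans (hb m'.left).symm)

/-- Maps into the nerve from tuples. -/
theorem exists_nerve_lift {k : ℕ} {V : Over S} (q : V.left ⟶ Spec R) (hq : q ≫ a = V.hom)
    (s : Fin (k + 1) → (V ⟶ (specOver a).obj (op (algOf R A))))
    (hs : ∀ j, (s j).left ≫ Spec.map (CommRingCat.ofHom (algebraMap R A)) = q) :
    ∃ m : V ⟶ nerveObj a A k, (∀ j, m ≫ nervePr a A k j = s j) ∧ m.left ≫ nerveBase a A k = q := by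
  let φ : Amitsur.Y R A k ⟶ Γ(V.left, ⊤) :=
    WidePushout.desc (gam q) (fun j => gam (s j).left) (fun j => (gam_comp (s j).left _).symm.trans (congrArg gam (hs j)))
  have hb : (V.left.toSpecΓ ≫ Spec.map φ) ≫ nerveBase a A k = q := by
    refine ((Category.assoc _ _ _).trans (congrArg (V.left.toSpecΓ ≫ ·) (Spec.map_comp _ φ).symm)).trans ?_
    refine Eq.trans ?_ (toSpecΓ_gam q)
    refine congrArg (fun ψ => V.left.toSpecΓ ≫ Spec.map ψ) ?_
    exact WidePushout.head_desc _ _ _ _
  refine ⟨Over.homMk (V.left.toSpecΓ ≫ Spec.map φ) ?_, fun j => ?_, hb⟩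
  · change (_ ≫ _) ≫ nerveBase a A k ≫ a = V.hom
    exact (Category.assoc _ _ _).symm.trans ((congrArg (· ≫ a) hb).trans hq)
  · apply Over.OverMorphism.ext
    change (_ ≫ _) ≫ Spec.map (Amitsur.ι R A k j) = _
    refine ((Category.assoc _ _ _).trans (congrArg (V.left.toSpecΓ ≫ ·) (Spec.map_comp _ φ).symm)).trans ?_
    refine Eq.trans ?_ (toSpecΓ_gam (s j).left)
    refine congrArg (fun ψ => V.left.toSpecΓ ≫ Spec.map ψ) ?_
    exact WidePushout.ι_desc _ _ _ _ j

/-- The map of nerve terms along a map of indices. -/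
noncomputable def nerveMap {m n : ℕ} (f : Fin (n + 1) → Fin (m + 1)) : nerveObj a A m ⟶ nerveObj a A n :=
  (exists_nerve_lift a A (nerveBase a A m) rfl (fun j => nervePr a A m (f j))
    (fun j => nervePr_base a A m (f j))).choose

lemma nerveMap_pr {m n : ℕ} (f : Fin (n + 1) → Fin (m + 1)) (j : Fin (n + 1)) :
    nerveMap a A f ≫ nervePr a A n j = nervePr a A m (f j) :=
  (exists_nerve_lift a A (nerveBase a A m) rfl (fun j => nervePr a A m (f j))
    (fun j => nervePr_base a A m (f j))).choose_spec.1 j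

lemma nerveMap_base {m n : ℕ} (f : Fin (n + 1) → Fin (m + 1)) :
    (nerveMap a A f).left ≫ nerveBase a A n = nerveBase a A m :=
  (exists_nerve_lift a A (nerveBase a A m) rfl (fun j => nervePr a A m (f j))
    (fun j => nervePr_base a A m (f j))).choose_spec.2

/-- The nerve. -/
noncomputable def nerve : SimplicialObject (Over S) where
  obj n := nerveObj a A n.unop.len
  map f := nerveMap a A f.unop.toOrderHom
  map_id n := nerve_ext a A fun j => (nerveMap_pr a A _ j).trans (Category.id_comp _).symm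
  map_comp f g := nerve_ext a A fun j => by
    rw [Category.assoc, nerveMap_pr, nerveMap_pr, nerveMap_pr]
    rfl

/-- A face of the nerve. -/
noncomputable abbrev face (k : ℕ) (i : Fin (k + 2)) : nerveObj a A (k + 1) ⟶ nerveObj a A k :=
  nerveMap a A i.succAbove

lemma face_eq (k : ℕ) (i : Fin (k + 2)) : face a A k i = (specOver a).map (amδ (R := R) A k i).op := by
  refine nerve_ext a A fun j => (nerveMap_pr a A _ j).trans ?_
  refine Eq.trans (congrArg (fun g => (specOver a).map g) ?_) (Functor.map_comp _ _ _)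
  refine congrArg Quiver.Hom.op (CommAlgCat.hom_ext (AlgHom.ext fun b => ?_))
  exact (Amitsur.δ_ι R A k i j b).symm

variable (F : (Over S)ᵒᵖ ⥤ AddCommGrpCat.{v})

/-- The differential of the sections over the nerve. -/
noncomputable def nerveD (k : ℕ) : F.obj (op (nerveObj a A k)) ⟶ F.obj (op (nerveObj a A (k + 1))) :=
  ∑ i : Fin (k + 2), (-1 : ℤ) ^ (i : ℕ) • F.map (face a A k i).op

lemma hom_sum_apply' {M N : AddCommGrpCat.{v}} {ι : Type} (s : Finset ι) (f : ι → (M ⟶ N)) (x : M) :
    (∑ i ∈ s, f i) x = ∑ i ∈ s, f i x := by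
  classical
  induction s using Finset.induction with
  | empty => rfl
  | insert b s hb ih =>
    rw [Finset.sum_insert hb, Finset.sum_insert hb, ← ih]
    rfl

lemma nerveD_apply (k : ℕ) (x : F.obj (op (nerveObj a A k))) :
    nerveD a A F k x = ∑ i : Fin (k + 2), (-1 : ℤ) ^ (i : ℕ) • F.map (face a A k i).op x := by
  rw [nerveD, hom_sum_apply']
  rfl

theorem nerveD_comp (k : ℕ) : nerveD a A F k ≫ nerveD a A F (k + 1) = 0 :=
  AlgebraicTopology.AlternatingCofaceMapComplex.d_squared
    ((nerve a A).rightOp ⋙ F : CosimplicialObject AddCommGrpCat.{v}) k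

theorem nerveD_nerveD (k : ℕ) (x : F.obj (op (nerveObj a A k))) :
    nerveD a A F (k + 1) (nerveD a A F k x) = 0 :=
  ConcreteCategory.congr_hom (nerveD_comp a A F k) x

variable {G : (Over S)ᵒᵖ ⥤ AddCommGrpCat.{v}}

lemma nerveD_natural (φ : F ⟶ G) (k : ℕ) (x : F.obj (op (nerveObj a A k))) :
    φ.app (op (nerveObj a A (k + 1))) (nerveD a A F k x) = nerveD a A G k (φ.app (op (nerveObj a A k)) x) := by
  rw [nerveD_apply, nerveD_apply, map_sum]
  refine Finset.sum_congr rfl fun i _ => ?_
  rw [map_zsmul]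
  exact congrArg _ (NatTrans.naturality_apply φ (face a A k i).op x)

/-- The Amitsur sequence of a presheaf is exact in positive degrees. -/
def NerveExact : Prop := ∀ k : ℕ, ∀ x : F.obj (op (nerveObj a A (k + 1))),
  nerveD a A F (k + 1) x = 0 → ∃ y, nerveD a A F k y = x

end Groth.Agent.H02CA.Adq
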