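import Groth.Agent.H02CA.Adeq.Big.Affine
import Groth.Agent.H02CA.Adeq.Flat
import Groth.Agent.H02CA.Adeq.Big.ToAb
import Mathlib.AlgebraicGeometry.Morphisms.Flat

/-!
# Parasitic adequate modules
-/

set_option autoImplicit false
set_option linter.style.haveILetI false

universe w u

open CategoryTheory Opposite Limits TensorProduct AlgebraicGeometry MorphismProperty

namespace Groth.Agent.H02CA.Adq

open Adeq

/-- A flat map into an open subscheme. -/
lemma flat_of_comp_openImmersion {X Y Z : Scheme.{u}} (f : X ⟶ Y) (g : Y ⟶ Z) [IsOpenImmersion g]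
    (h : Flat (f ≫ g)) : Flat f :=
  MorphismProperty.of_isPullback (P := @Flat)
    (⟨⟨(Category.id_comp _).symm⟩, ⟨PullbackCone.IsLimit.mk _ (fun s => s.snd) (fun s => by
      rw [← cancel_mono g, Category.assoc]; exact s.condition.symm)
      (fun s => Category.comp_id _) (fun s m _ hm => (Category.comp_id m).symm.trans hm)⟩⟩ :
      IsPullback f (𝟙 X) g (f ≫ g)).flip h

variable {P : MorphismProperty Scheme.{u}} [GoodCov P] [BigSite.OSh (Scheme.precoverage P)] {S : Scheme.{u}}

/-- Vanishing of sections passes along isomorphisms of objects. -/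
lemma subsingleton_transfer {K : Precoverage Scheme.{u}} [BigSite.OSh K] (M : BigSite.Mod K S) {U V : Over S}
    (e : U ≅ V) (h : Subsingleton (M.val.obj (op U))) : Subsingleton (M.val.obj (op V)) :=
  ⟨fun x y => (tr_iso_bijective M.val e).1 (Subsingleton.elim _ _)⟩

/-- The base object of an affine open is that open. -/
noncomputable def baseObjOpen {U : S.Opens} (hU : IsAffineOpen U) :
    baseObj (R := Γ(S, U)) hU.fromSpec ≅ (BigSite.zarIncl S).obj U :=
  Over.isoMk hU.isoSpec.symm (by
    change hU.isoSpec.inv ≫ U.ι = Spec.map (CommRingCat.ofHom (algebraMap Γ(S, U) Γ(S, U))) ≫ hU.fromSpec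
    rw [show CommRingCat.ofHom (algebraMap Γ(S, U) Γ(S, U)) = 𝟙 Γ(S, U) from
      CommRingCat.hom_ext (RingHom.ext fun _ => rfl)]
    erw [Spec.map_id, Category.id_comp]
    rfl)

/-- Vanishing over affine opens covering the base gives vanishing over flat objects. -/
theorem parasitic_of_affine_cover {M : BigSite.Mod (Scheme.precoverage P) S}
    (hM : adequateMod (Scheme.precoverage P) S M) {ι : Type w} (U : ι → S.Opens)
    (hU : ∀ i, IsAffineOpen (U i)) (hcov : (⨆ i, U i) = ⊤)
    (h : ∀ i, Subsingleton (M.val.obj (op ((BigSite.zarIncl S).obj (U i))))) :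
    parasitic (Scheme.precoverage P) S M := by
  intro V hV
  haveI := hV
  have hpt : ∀ x : V.left, ∃ (i : ι) (W : V.left.Opens) (hW : IsAffineOpen W), x ∈ W ∧
      Set.range (hW.fromSpec ≫ V.hom) ⊆ Set.range (hU i).fromSpec := by
    intro x
    obtain ⟨i, hi⟩ := TopologicalSpace.Opens.mem_iSup.1 (hcov.ge (Set.mem_univ (V.hom x)))
    obtain ⟨_, ⟨W, hW, rfl⟩, hxW, hWU⟩ := V.left.isBasis_affineOpens.exists_subset_of_mem_open
      (show x ∈ (V.hom ⁻¹ᵁ U i : Set V.left) from hi) (V.hom ⁻¹ᵁ U i).isOpen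
    refine ⟨i, W, hW, hxW, ?_⟩
    rw [(hU i).range_fromSpec]
    rintro _ ⟨p, rfl⟩
    rw [Scheme.Hom.comp_apply]
    exact hWU (hW.range_fromSpec ▸ ⟨p, rfl⟩)
  choose i W hW hxW hsub using hpt
  let f : ∀ x, Over.mk ((hW x).fromSpec ≫ V.hom) ⟶ V := fun x => Over.homMk (hW x).fromSpec rfl
  have hT : Sieve.ofArrows (fun x => Over.mk ((hW x).fromSpec ≫ V.hom)) f ∈
      QuotSh.J (Scheme.precoverage P) S V := by
    rw [GrothendieckTopology.mem_over_iff, Sieve.overEquiv_ofArrows]
    refine Precoverage.generate_mem_toGrothendieck ((Scheme.ofArrows_mem_precoverage_iff P).2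
      ⟨fun x => ⟨x, ?_⟩, fun x => GoodCov.openImmersion _ (inferInstanceAs (IsOpenImmersion (hW x).fromSpec))⟩)
    change x ∈ Set.range (hW x).fromSpec
    rw [(hW x).range_fromSpec]
    exact hxW x
  refine ⟨fun s s' => eq_of_locally M hT s s' ?_⟩
  rintro Z g ⟨_, v, _, ⟨x⟩, rfl⟩
  rw [← tr_comp, ← tr_comp]
  refine congrArg (tr M.val v) ?_
  let R : CommRingCat.{u} := Γ(S, U (i x))
  let t : Spec Γ(V.left, W x) ⟶ Spec R :=
    IsOpenImmersion.lift (hU (i x)).fromSpec ((hW x).fromSpec ≫ V.hom) (hsub x)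
  have ht : t ≫ (hU (i x)).fromSpec = (hW x).fromSpec ≫ V.hom := IsOpenImmersion.lift_fac _ _ _
  have htf : Flat t := flat_of_comp_openImmersion t (hU (i x)).fromSpec (by rw [ht]; infer_instance)
  letI : Algebra R Γ(V.left, W x) := (Spec.preimage t).hom.toAlgebra
  have ha : algMap' R Γ(V.left, W x) = t := Spec.map_preimage t
  haveI : Module.Flat R Γ(V.left, W x) := by
    have h : Flat (Spec.map (Spec.preimage t)) := by rwa [Spec.map_preimage]
    exact (HasRingHomProperty.Spec_iff (P := @Flat)).1 h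
  have hbase : Subsingleton ((FModPre (Scheme.precoverage P) (hU (i x)).fromSpec M.val).obj (pt (algOf R R))) :=
    @Equiv.subsingleton _ _ (sectOf (hU (i x)).fromSpec M.val (algOf R R)).toEquiv
      (subsingleton_transfer M (baseObjOpen (hU (i x))).symm (h (i x)))
  have hB := subsingleton_of_flat (allAdeq_of_adequateMod hM R (hU (i x)).fromSpec) hbase (algOf R Γ(V.left, W x))
  have e : algMap' R Γ(V.left, W x) ≫ (hU (i x)).fromSpec = (hW x).fromSpec ≫ V.hom := by rw [ha, ht]
  haveI := subsingleton_transfer M (overIso _ _ e)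
    (@Equiv.subsingleton _ _ (sectOf (hU (i x)).fromSpec M.val (algOf R Γ(V.left, W x))).symm.toEquiv hB)
  exact Subsingleton.elim _ _

/-- Parasitic modules are parasitic for the topology. -/
theorem parasiticFor_of_parasitic (hflat : ∀ {X Y : Scheme.{u}} (f : X ⟶ Y), P f → Flat f)
    {M : BigSite.Mod (Scheme.precoverage P) S} (h : parasitic (Scheme.precoverage P) S M) :
    parasiticFor (Scheme.precoverage P) S M :=
  fun _ hQ _ g hg => h (Over.mk g) (hflat _ (hQ.2 hg))

/-- Modules parasitic for the topology vanish over opens. -/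
theorem subsingleton_open_of_parasiticFor {M : BigSite.Mod (Scheme.precoverage P) S}
    (h : parasiticFor (Scheme.precoverage P) S M) (U : S.Opens) :
    Subsingleton (M.val.obj (op ((BigSite.zarIncl S).obj U))) := by
  let X : Bool → Scheme.{u} := fun b => bif b then U.toScheme else S
  let f : ∀ b, X b ⟶ S := fun b => match b with
    | true => U.ι
    | false => 𝟙 S
  have hmem : Presieve.ofArrows X f ∈ (Scheme.precoverage P).coverings S :=
    (Scheme.ofArrows_mem_precoverage_iff P).2 ⟨fun x => ⟨false, x, rfl⟩, fun b => match b with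
      | true => GoodCov.openImmersion _ (inferInstanceAs (IsOpenImmersion U.ι))
      | false => GoodCov.openImmersion _ (inferInstanceAs (IsOpenImmersion (𝟙 S)))⟩
  exact h hmem (f true) ⟨true⟩

/-- Parasitic adequate modules. -/
theorem parasitic_tfae (hflat : ∀ {X Y : Scheme.{u}} (f : X ⟶ Y), P f → Flat f)
    {M : BigSite.Mod (Scheme.precoverage P) S} (hM : adequateMod (Scheme.precoverage P) S M) :
    List.TFAE [parasitic (Scheme.precoverage P) S M, parasiticFor (Scheme.precoverage P) S M,
      ∀ U : S.Opens, Subsingleton (BigSite.sectMod (Scheme.precoverage P) M ((BigSite.zarIncl S).obj U)),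
      ∃ (ι : Type u) (U : ι → S.Opens), (∀ i, IsAffineOpen (U i)) ∧ (⨆ i, U i) = ⊤ ∧
        ∀ i, Subsingleton (BigSite.sectMod (Scheme.precoverage P) M ((BigSite.zarIncl S).obj (U i)))] := by
  tfae_have 1 → 2 := parasiticFor_of_parasitic hflat
  tfae_have 2 → 3 := subsingleton_open_of_parasiticFor
  tfae_have 3 → 4 := fun h => ⟨S.affineOpens, fun U => U.1, fun U => U.2,
    iSup_affineOpens_eq_top S, fun U => h _⟩
  tfae_have 4 → 1 := fun ⟨_, U, hU, hcov, h⟩ => parasitic_of_affine_cover hM U hU hcov h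
  tfae_finish

/-- Parasitic adequate modules are closed under extensions and subquotients. -/
theorem parasitic_of_exact (hflat : ∀ {X Y : Scheme.{u}} (f : X ⟶ Y), P f → Flat f)
    {C : ShortComplex (BigSite.Mod (Scheme.precoverage P) S)} (hC : C.Exact)
    (h₂ : adequateMod (Scheme.precoverage P) S C.X₂)
    (p₁ : parasitic (Scheme.precoverage P) S C.X₁) (p₃ : parasitic (Scheme.precoverage P) S C.X₃) :
    parasitic (Scheme.precoverage P) S C.X₂ := by
  refine parasitic_of_affine_cover h₂ (fun U : S.affineOpens => U.1) (fun U => U.2)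
    (iSup_affineOpens_eq_top S) fun U => subsingleton_transfer C.X₂ (baseObjOpen U.2) ?_
  have hfl : ∀ (B : Alg Γ(S, U.1)), Module.Flat Γ(S, U.1) B →
      Flat ((specOver U.2.fromSpec).obj (op B)).hom := fun B hB => by
    haveI : Flat (Spec.map (CommRingCat.ofHom (algebraMap Γ(S, U.1) B))) :=
      (HasRingHomProperty.Spec_iff (P := @Flat)).2
        (RingHom.flat_algebraMap_iff.2 hB)
    change Flat (Spec.map (CommRingCat.ofHom (algebraMap Γ(S, U.1) B)) ≫ U.2.fromSpec)
    infer_instance
  suffices h : ∀ x : C.X₂.val.obj (op (baseObj U.2.fromSpec)), x = 0 from ⟨fun x y => (h x).trans (h y).symm⟩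
  intro x
  haveI := p₃ (baseObj U.2.fromSpec) (hfl _ inferInstance)
  obtain ⟨n, R', i1, i2, hff, hmem, hcov⟩ := exists_refine_base (R := Γ(S, U.1)) hflat U.2.fromSpec _
    (imageSieve_mem_of_exact hC x (Subsingleton.elim _ _))
  refine eq_of_locally C.X₂ hcov x 0 ?_
  rintro V v ⟨_, w, _, ⟨j⟩, rfl⟩
  obtain ⟨z, hz⟩ := hmem j
  haveI : Module.Flat Γ(S, U.1) (∀ j, R' j) := inferInstance
  haveI : Module.Flat Γ(S, U.1) (R' j) :=
    Module.Flat.of_retract (LinearMap.single Γ(S, U.1) R' j) (LinearMap.proj j)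
      (LinearMap.ext fun r => Pi.single_eq_same j r)
  have hp := p₁ ((specOver U.2.fromSpec).obj (op (algOf Γ(S, U.1) (R' j)))) (hfl _ ‹_›)
  have h : tr C.X₂.val (jHom U.2.fromSpec (algOf Γ(S, U.1) (R' j))) x = 0 := by
    refine hz.symm.trans ?_
    exact (congrArg (C.f.val.app _) (@Subsingleton.elim _ hp z 0)).trans (map_zero _)
  rw [← tr_comp, ← tr_comp, h]
  exact (congrArg (tr C.X₂.val w) (map_zero (tr C.X₂.val _))).symm

end Groth.Agent.H02CA.Adq
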