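import Groth.Agent.H02CA.Adeq.Big.Affine
import Mathlib.Algebra.Category.ModuleCat.Presheaf.Sheafification
import Mathlib.Algebra.Category.ModuleCat.Presheaf.Colimits
import Mathlib.CategoryTheory.Limits.Preserves.Shapes.Kernels

/-!
# Sheafification of adequate presheaves of modules
-/

set_option autoImplicit false
set_option linter.style.haveILetI false

universe u

open CategoryTheory Opposite Limits TensorProduct AlgebraicGeometry MorphismProperty

namespace Groth.Agent.H02CA.Adq

open Adeq

variable {P : MorphismProperty Scheme.{u}} [GoodCov P] [BigSite.OSh (Scheme.precoverage P)] {S : Scheme.{u}}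

/-- The sheafification functor on presheaves of modules on a big site. -/
noncomputable abbrev shf (K : Precoverage Scheme.{u}) [BigSite.OSh K] (S : Scheme.{u}) :
    PresheafOfModules.{u + 1} (BigSite.ORing K S).obj ⥤ BigSite.Mod K S :=
  PresheafOfModules.sheafification (𝟙 (BigSite.ORing K S).obj)

/-- Sheafification of adequate presheaves. -/
theorem adequate_sheafification (hflat : ∀ {X Y : Scheme.{u}} (f : X ⟶ Y), P f → Flat f)
    (P₀ : PresheafOfModules.{u + 1} (BigSite.ORing (Scheme.precoverage P) S).obj) (hP : AllAdeqPre P₀) :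
    adequateMod (Scheme.precoverage P) S ((shf (Scheme.precoverage P) S).obj P₀) := by
  let φ : P₀ ⟶ ((shf (Scheme.precoverage P) S).obj P₀).val :=
    (PresheafOfModules.sheafificationAdjunction (𝟙 (BigSite.ORing (Scheme.precoverage P) S).obj)).unit.app P₀
  haveI : Presheaf.IsLocallyInjective (QuotSh.J (Scheme.precoverage P) S)
      ((PresheafOfModules.toPresheaf _).map φ) :=
    inferInstanceAs (Presheaf.IsLocallyInjective (QuotSh.J (Scheme.precoverage P) S)
      (CategoryTheory.toSheafify (QuotSh.J (Scheme.precoverage P) S) P₀.presheaf))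
  haveI : Presheaf.IsLocallySurjective (QuotSh.J (Scheme.precoverage P) S)
      ((PresheafOfModules.toPresheaf _).map φ) :=
    inferInstanceAs (Presheaf.IsLocallySurjective (QuotSh.J (Scheme.precoverage P) S)
      (CategoryTheory.toSheafify (QuotSh.J (Scheme.precoverage P) S) P₀.presheaf))
  exact adequate_of_locally_bijective φ hflat hP

variable {K : Precoverage Scheme.{u}} [BigSite.OSh K] {R : CommRingCat.{u}} (a : Spec R ⟶ S)

instance preservesColimits_toMVFPre :
    PreservesColimitsOfSize.{u + 1, u + 1} (toMVFPre K a) := by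
  haveI h : PreservesColimitsOfSize.{u + 1, u + 1} (toMVFPre K a ⋙ PresheafOfModules.toPresheaf _) :=
    inferInstanceAs (PreservesColimitsOfSize.{u + 1, u + 1}
      (PresheafOfModules.toPresheaf (BigSite.ORing K S).obj ⋙
        (Functor.whiskeringLeft _ _ AddCommGrpCat.{u + 1}).obj (specOver a).op))
  refine ⟨fun {J} _ => ?_⟩
  haveI : ReflectsColimitsOfShape J (PresheafOfModules.toPresheaf.{u + 1} (ringOf R)) :=
    reflectsColimitsOfShape_of_reflectsIsomorphisms
  exact preservesColimitsOfShape_of_reflects_of_preserves (toMVFPre K a) (PresheafOfModules.toPresheaf _)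

/-- Presheaf colimits of adequate modules. -/
theorem allAdeqPre_colimit {J : Type (u + 1)} [SmallCategory J]
    (D : J ⥤ PresheafOfModules.{u + 1} (BigSite.ORing K S).obj) (hD : ∀ j, AllAdeqPre (D.obj j)) :
    AllAdeqPre (colimit D) := fun R a =>
  (adequate R).prop_of_iso (preservesColimitIso (toMVFPre K a) D).symm
    (adequate_colimit _ fun j => hD j R a)

/-- Presheaf cokernels of adequate modules. -/
theorem allAdeqPre_cokernel {M N : PresheafOfModules.{u + 1} (BigSite.ORing K S).obj} (φ : M ⟶ N)
    (hM : AllAdeqPre M) (hN : AllAdeqPre N) : AllAdeqPre (cokernel φ) := fun R a => by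
  haveI : PreservesColimitsOfSize.{0, 0} (toMVFPre K a) :=
    preservesColimitsOfSize_shrink.{0, u + 1, 0, u + 1} (toMVFPre K a)
  exact (adequate R).prop_of_iso (PreservesCokernel.iso (toMVFPre K a) φ).symm
    (adequate_cokernel _ (hM R a) (hN R a))

/-- Colimits of adequate modules. -/
theorem adequateMod_colimit (hflat : ∀ {X Y : Scheme.{u}} (f : X ⟶ Y), P f → Flat f) {J : Type (u + 1)}
    [SmallCategory J] (D : J ⥤ BigSite.Mod (Scheme.precoverage P) S)
    (hD : ∀ j, adequateMod (Scheme.precoverage P) S (D.obj j)) :
    adequateMod (Scheme.precoverage P) S (colimit D) := by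
  let ε := (PresheafOfModules.sheafificationAdjunction (𝟙 (BigSite.ORing (Scheme.precoverage P) S).obj)).counit
  let D' : J ⥤ PresheafOfModules.{u + 1} (BigSite.ORing (Scheme.precoverage P) S).obj :=
    D ⋙ (SheafOfModules.forget _ ⋙ PresheafOfModules.restrictScalars (𝟙 _))
  let e : D' ⋙ shf (Scheme.precoverage P) S ≅ D :=
    Functor.associator _ _ _ ≪≫ Functor.isoWhiskerLeft D (asIso ε) ≪≫ D.rightUnitor
  refine (adequateMod (Scheme.precoverage P) S).prop_of_iso
    (preservesColimitIso (shf (Scheme.precoverage P) S) D' ≪≫ HasColimit.isoOfNatIso e) ?_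
  exact adequate_sheafification hflat _
    (allAdeqPre_colimit D' fun j R a => allAdeq_of_adequateMod (hD j) R a)

/-- Cokernels of adequate modules. -/
theorem adequateMod_cokernel (hflat : ∀ {X Y : Scheme.{u}} (f : X ⟶ Y), P f → Flat f)
    {M N : BigSite.Mod (Scheme.precoverage P) S} (φ : M ⟶ N)
    (hM : adequateMod (Scheme.precoverage P) S M) (hN : adequateMod (Scheme.precoverage P) S N) :
    adequateMod (Scheme.precoverage P) S (cokernel φ) := by
  let G := SheafOfModules.forget (BigSite.ORing (Scheme.precoverage P) S) ⋙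
    PresheafOfModules.restrictScalars (𝟙 _)
  let ε := (PresheafOfModules.sheafificationAdjunction (𝟙 (BigSite.ORing (Scheme.precoverage P) S).obj)).counit
  refine (adequateMod (Scheme.precoverage P) S).prop_of_iso
    (PreservesCokernel.iso (shf (Scheme.precoverage P) S) (G.map φ) ≪≫
      cokernel.mapIso _ _ (asIso (ε.app M)) (asIso (ε.app N)) (ε.naturality φ)) ?_
  exact adequate_sheafification hflat _
    (allAdeqPre_cokernel (G.map φ) (fun R a => allAdeq_of_adequateMod hM R a)
      (fun R a => allAdeq_of_adequateMod hN R a))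

end Groth.Agent.H02CA.Adq
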