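import Groth.Agent.H02CA.Adeq.Big.Cartan

/-!
# Cohomology of adequate modules on affine objects vanishes
-/

set_option autoImplicit false
set_option linter.style.haveILetI false

universe u

open CategoryTheory Opposite Limits TensorProduct AlgebraicGeometry MorphismProperty

namespace Groth.Agent.H02CA.Adq

open Adeq

variable {P : MorphismProperty Scheme.{u}} [GoodCov P] [BigSite.OSh (Scheme.precoverage P)] {S : Scheme.{u}}

lemma nerveD_eq_amD (M : BigSite.Mod (Scheme.precoverage P) S) {R : CommRingCat.{u}} (a : Spec R ⟶ S)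
    (A : Type u) [CommRing A] [Algebra R A] (k : ℕ)
    (x : (FModPre (Scheme.precoverage P) a M.val).obj (pt (amAlg (R := R) A k))) :
    nerveD a A ((BigSite.toAbMod (Scheme.precoverage P) S).obj M).obj k
        (sectOf a M.val (amAlg (R := R) A k) x) =
      sectOf a M.val (amAlg (R := R) A (k + 1)) (amD A (FModPre (Scheme.precoverage P) a M.val) k x) := by
  rw [nerveD_apply, amD_apply, map_sum]
  refine Finset.sum_congr rfl fun i _ => ?_
  rw [face_eq, map_zsmul]
  rfl

/-- Adequate modules are good. -/
theorem goodSheaf_toAbMod {M : BigSite.Mod (Scheme.precoverage P) S} (hM : adequateMod (Scheme.precoverage P) S M) :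
    GoodSheaf ((BigSite.toAbMod (Scheme.precoverage P) S).obj M) := by
  intro R a A _ _ hff k x hx
  haveI := hff
  obtain ⟨x, rfl⟩ := (sectOf a M.val (amAlg (R := R) A (k + 1))).surjective x
  have hx' : amD A (FModPre (Scheme.precoverage P) a M.val) (k + 1) x = 0 :=
    (sectOf a M.val (amAlg (R := R) A (k + 2))).injective
      ((nerveD_eq_amD M a A (k + 1) x).symm.trans (hx.trans (map_zero _).symm))
  obtain ⟨y, hy⟩ := (exact_d A (allAdeq_of_adequateMod hM R a) k x).1 hx'
  exact ⟨sectOf a M.val (amAlg (R := R) A k) y, (nerveD_eq_amD M a A k y).trans (congrArg _ hy)⟩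

/-- Vanishing over affine objects. -/
theorem subsingleton_HU_of_adequateMod (hflat : ∀ {X Y : Scheme.{u}} (f : X ⟶ Y), P f → Flat f)
    (M : BigSite.Mod (Scheme.precoverage P) S) (hM : adequateMod (Scheme.precoverage P) S M) (U : Over S)
    [IsAffine U.left] (q : ℕ) (hq : 0 < q) :
    Subsingleton (BigSite.HU (Scheme.precoverage P) ((BigSite.toAbMod (Scheme.precoverage P) S).obj M) q U) := by
  obtain ⟨p, rfl⟩ := Nat.exists_eq_add_one_of_ne_zero hq.ne'
  exact subsingleton_H_of_good hflat p _
    (goodSheaf_toAbMod (adequateMod_pull U.hom hM))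

end Groth.Agent.H02CA.Adq
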