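import Groth.Agent.H02CA.Adeq.Big.Vanish
import Groth.Agent.H02CA.Adeq.Big.Parasitic
import Groth.Agent.H02CA.Adeq.Big.LanMono
import Groth.Prelude.Def_EtZar
import Mathlib.GroupTheory.QuotientGroup.Basic

/-!
# Zariski and big-site cohomology of good sheaves
-/

set_option autoImplicit false
set_option linter.style.haveILetI false

universe u

open CategoryTheory Opposite Limits TensorProduct AlgebraicGeometry MorphismProperty CategoryTheory.Abelian

namespace Groth.Agent.H02CA.Adq

open Adeq

section Restrict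

variable (S : Scheme.{u})

lemma range_left_le {V : Over S} {U : S.Opens} (v : V ⟶ (BigSite.zarIncl S).obj U) :
    Set.range V.hom ⊆ (U : Set S) := by
  rintro _ ⟨x, rfl⟩
  have e : v.left ≫ U.ι = V.hom := Over.w v
  rw [← e, Scheme.Hom.comp_apply]
  exact (v.left x).2

lemma zarHom_ext {V : Over S} {U : S.Opens} (v v' : V ⟶ (BigSite.zarIncl S).obj U) : v = v' := by
  apply Over.OverMorphism.ext
  have e : v.left ≫ U.ι = V.hom := Over.w v
  have e' : v'.left ≫ U.ι = V.hom := Over.w v'
  exact (cancel_mono U.ι).1 (e.trans e'.symm)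

lemma nonempty_zarHom {V : Over S} (U : S.Opens) (h : Set.range V.hom ⊆ (U : Set S)) :
    Nonempty (V ⟶ (BigSite.zarIncl S).obj U) := by
  have h' : Set.range V.hom ⊆ Set.range U.ι := by rwa [Scheme.Opens.range_ι]
  obtain ⟨l, hl⟩ : ∃ l : V.left ⟶ U.toScheme, l ≫ U.ι = V.hom :=
    ⟨IsOpenImmersion.lift U.ι V.hom h', IsOpenImmersion.lift_fac U.ι V.hom h'⟩
  exact ⟨(Over.homMk l hl : V ⟶ Over.mk U.ι)⟩

/-- The inclusion of opens is representably flat. -/
theorem representablyFlat_zarIncl : RepresentablyFlat (BigSite.zarIncl S) := by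
  refine ⟨fun V => ?_⟩
  haveI : Nonempty (StructuredArrow V (BigSite.zarIncl S)) :=
    (nonempty_zarHom S (⊤ : S.Opens) fun _ _ => trivial).map StructuredArrow.mk
  haveI : IsCofilteredOrEmpty (StructuredArrow V (BigSite.zarIncl S)) := by
    refine ⟨fun X Y => ?_, fun X Y f g => ⟨X, 𝟙 X, StructuredArrow.ext _ _ (Subsingleton.elim _ _)⟩⟩
    obtain ⟨w⟩ := nonempty_zarHom S (V := V) (X.right ⊓ Y.right : S.Opens) fun s hs =>
      ⟨range_left_le S X.hom hs, range_left_le S Y.hom hs⟩
    exact ⟨StructuredArrow.mk w, StructuredArrow.homMk (homOfLE inf_le_left) (zarHom_ext S _ _),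
      StructuredArrow.homMk (homOfLE inf_le_right) (zarHom_ext S _ _), trivial⟩
  exact { }

variable (K : Precoverage Scheme.{u}) [BigSite.ZarCont K S]

theorem preservesMonomorphisms_piZarPull : (BigSite.piZarPull K S).PreservesMonomorphisms := by
  haveI := representablyFlat_zarIncl S
  haveI : ((BigSite.zarIncl S).op.lan : (S.Opensᵒᵖ ⥤ AddCommGrpCat.{u + 1}) ⥤
      ((Over S)ᵒᵖ ⥤ AddCommGrpCat.{u + 1})).PreservesMonomorphisms := by
    refine LanMono.preservesMonomorphisms_lan_of_colim _ fun Z P Q φ hφ => ?_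
    haveI : IsFiltered (CostructuredArrow (BigSite.zarIncl S).op Z) :=
      IsFiltered.of_equivalence (structuredArrowOpEquivalence (BigSite.zarIncl S) Z.unop)
    haveI : Mono (Functor.whiskerLeft (CostructuredArrow.proj (BigSite.zarIncl S).op Z) φ) :=
      @NatTrans.mono_of_mono_app _ _ _ _ _ _ _ fun x => inferInstanceAs (Mono (φ.app _))
    haveI := LanMono.ab5.{u}
    haveI : PreservesFiniteLimits (colim (J := CostructuredArrow (BigSite.zarIncl S).op Z)
      (C := AddCommGrpCat.{u + 1})) := inferInstance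
    exact (colim (J := CostructuredArrow (BigSite.zarIncl S).op Z) (C := AddCommGrpCat.{u + 1})).map_mono _
  haveI : (Functor.sheafPullbackConstruction.sheafPullback (BigSite.zarIncl S) AddCommGrpCat.{u + 1}
      (Opens.grothendieckTopology S) (QuotSh.J K S)).PreservesMonomorphisms := by
    haveI : (sheafToPresheaf (Opens.grothendieckTopology S) AddCommGrpCat.{u + 1}).PreservesMonomorphisms :=
      Functor.preservesMonomorphisms_of_adjunction (sheafificationAdjunction _ _)
    haveI : (presheafToSheaf (QuotSh.J K S) AddCommGrpCat.{u + 1}).PreservesMonomorphisms :=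
      preservesMonomorphisms_of_preservesLimitsOfShape _
    unfold Functor.sheafPullbackConstruction.sheafPullback; infer_instance
  exact Functor.PreservesMonomorphisms.of_iso (Functor.sheafPullbackConstruction.sheafPullbackIso
    (BigSite.zarIncl S) AddCommGrpCat.{u + 1} (Opens.grothendieckTopology S) (QuotSh.J K S)).symm

theorem injective_resZar (I : BigSite.Ab K S) [Injective I] : Injective ((BigSite.resZar K S).obj I) := by
  haveI := preservesMonomorphisms_piZarPull S K
  exact Injective.injective_of_adjoint (BigSite.piZarAdj K S) I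

end Restrict


section Shift

variable {C : Type*} [Category C] [Abelian C] [HasExt.{u + 1} C] {T : ShortComplex C} (hT : T.ShortExact)
  [Injective T.X₂] (Z : C) (n : ℕ)

/-- The connecting map. -/
noncomputable def shiftMap : Ext.{u + 1} Z T.X₃ n →+ Ext.{u + 1} Z T.X₁ (n + 1) :=
  hT.extClass.postcomp Z rfl

/-- The image of the middle term. -/
noncomputable def shiftRange : AddSubgroup (Ext.{u + 1} Z T.X₃ n) :=
  ((Ext.mk₀ T.g).postcomp Z (add_zero n)).range

lemma shiftMap_surjective : Function.Surjective (shiftMap hT Z n) := fun x =>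
  Ext.covariant_sequence_exact₁ Z hT x (Ext.eq_zero_of_injective (n := n) _) rfl

lemma shiftMap_ker : (shiftMap hT Z n).ker = shiftRange (T := T) Z n := by
  ext x
  constructor
  · intro hx
    obtain ⟨y, hy⟩ := Ext.covariant_sequence_exact₃ Z hT x rfl hx
    exact ⟨y, hy⟩
  · rintro ⟨y, rfl⟩
    change (y.comp (Ext.mk₀ T.g) (add_zero n)).comp hT.extClass rfl = 0
    rw [Ext.comp_assoc_of_second_deg_zero, ShortComplex.ShortExact.comp_extClass, Ext.comp_zero]

/-- Dimension shifting. -/
noncomputable def shiftEquiv : Ext.{u + 1} Z T.X₃ n ⧸ shiftRange (T := T) Z n ≃+ Ext.{u + 1} Z T.X₁ (n + 1) :=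
  (QuotientAddGroup.quotientAddEquivOfEq (shiftMap_ker hT Z n).symm).trans
    (QuotientAddGroup.quotientKerEquivOfSurjective _ (shiftMap_surjective hT Z n))

end Shift

variable {P : MorphismProperty Scheme.{u}} [GoodCov P] [BigSite.OSh (Scheme.precoverage P)] {S : Scheme.{u}}
  [BigSite.ZarCont (Scheme.precoverage P) S]

/-- Restriction to opens of an exact sequence with good first term is exact. -/
theorem shortExact_resZar (hflat : ∀ {X Y : Scheme.{u}} (f : X ⟶ Y), P f → Flat f)
    {T : ShortComplex (BigSite.Ab (Scheme.precoverage P) S)} (hT : T.ShortExact) (h₁ : GoodSheaf T.X₁) :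
    (T.map (BigSite.resZar (Scheme.precoverage P) S)).ShortExact := by
  haveI := hT.mono_f
  haveI := (BigSite.piZarAdj (Scheme.precoverage P) S).rightAdjoint_preservesLimits.{0, 0}
  haveI : Mono (T.map (BigSite.resZar (Scheme.precoverage P) S)).f :=
    inferInstanceAs (Mono ((BigSite.resZar (Scheme.precoverage P) S).map T.f))
  haveI : Sheaf.IsLocallySurjective (T.map (BigSite.resZar (Scheme.precoverage P) S)).g := by
    refine ⟨fun {U} s x hx => ?_⟩
    obtain ⟨_, ⟨W, hW, rfl⟩, hxW, hWU⟩ := S.isBasis_affineOpens.exists_subset_of_mem_open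
      (show x ∈ (U : Set S) from hx) U.isOpen
    refine ⟨W, homOfLE hWU, ?_, hxW⟩
    exact ab_surjective_specOver hflat hT h₁ _ (baseObjOpen hW)
      ((T.X₃.obj.map ((BigSite.zarIncl S).map (homOfLE hWU : W ⟶ U)).op) s)
  haveI : Epi (T.map (BigSite.resZar (Scheme.precoverage P) S)).g :=
    Sheaf.epi_of_isLocallySurjective _
  exact { exact := hT.exact.map_of_mono_of_preservesKernel _ inferInstance inferInstance }

/-- Sections over the largest open are global sections. -/
noncomputable def topObjIso : (BigSite.zarIncl S).obj ⊤ ≅ Over.mk (𝟙 S) :=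
  Over.isoMk S.topIso ((Category.comp_id _).trans S.topIso_hom)

/-- Degree zero. -/
noncomputable def degZero (F : BigSite.Ab (Scheme.precoverage P) S) :
    EtZar.H ((BigSite.resZar (Scheme.precoverage P) S).obj F) 0 ≃+ BigSite.H (Scheme.precoverage P) S F 0 :=
  ((Sheaf.H.equiv₀ ((BigSite.resZar (Scheme.precoverage P) S).obj F)
      (isTerminalTop : IsTerminal (⊤ : S.Opens))).trans
    (F.obj.mapIso (topObjIso (S := S)).op.symm).addCommGroupIsoToAddEquiv).trans
      (Sheaf.H.equiv₀ F Over.mkIdTerminal).symm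

lemma degZero_natural {F G : BigSite.Ab (Scheme.precoverage P) S} (φ : F ⟶ G)
    (x : EtZar.H ((BigSite.resZar (Scheme.precoverage P) S).obj F) 0) :
    degZero G (Sheaf.H.map ((BigSite.resZar (Scheme.precoverage P) S).map φ) 0 x) =
      Sheaf.H.map φ 0 (degZero F x) := by
  apply (Sheaf.H.equiv₀ G Over.mkIdTerminal).injective
  simp only [degZero, AddEquiv.trans_apply, AddEquiv.apply_symm_apply]
  rw [← Sheaf.H.equiv₀_naturality, ← Sheaf.H.equiv₀_naturality, AddEquiv.apply_symm_apply]
  exact (NatTrans.naturality_apply φ.hom (topObjIso (S := S)).inv.op _).symm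

/-- Zariski and big-site cohomology of good sheaves agree. -/
theorem nonempty_zarH_equiv (hflat : ∀ {X Y : Scheme.{u}} (f : X ⟶ Y), P f → Flat f) (n : ℕ) :
    ∀ F : BigSite.Ab (Scheme.precoverage P) S, GoodSheaf F →
      Nonempty (EtZar.H ((BigSite.resZar (Scheme.precoverage P) S).obj F) n ≃+
        BigSite.H (Scheme.precoverage P) S F n) := by
  induction n with
  | zero => exact fun F _ => ⟨degZero F⟩
  | succ n ih =>
    intro F hF
    let T := ShortComplex.mk (Injective.ι F) (cokernel.π (Injective.ι F)) (cokernel.condition _)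
    have hT : T.ShortExact :=
      { exact := ShortComplex.exact_of_g_is_cokernel _ (cokernelIsCokernel _) }
    have hQ : GoodSheaf T.X₃ :=
      goodSheaf_quotient hflat hT hF fun R a A _ _ _ => nerveExact_of_injective_sheaf a A _
    haveI : Injective (T.map (BigSite.resZar (Scheme.precoverage P) S)).X₂ :=
      injective_resZar S (Scheme.precoverage P) (Injective.under F)
    haveI : Injective T.X₂ := inferInstanceAs (Injective (Injective.under F))
    have hT' := shortExact_resZar hflat hT hF
    let Z := (constantSheaf (QuotSh.J (Scheme.precoverage P) S) AddCommGrpCat.{u + 1}).obj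
      (AddCommGrpCat.of (ULift.{u + 1} ℤ))
    let Z' := (constantSheaf (Opens.grothendieckTopology S) AddCommGrpCat.{u + 1}).obj
      (AddCommGrpCat.of (ULift.{u + 1} ℤ))
    obtain ⟨e, he⟩ : ∃ e : Ext.{u + 1} Z' (T.map (BigSite.resZar (Scheme.precoverage P) S)).X₃ n ≃+
        Ext.{u + 1} Z T.X₃ n,
        (shiftRange (T := T.map (BigSite.resZar (Scheme.precoverage P) S)) Z' n).map e.toAddMonoidHom =
          shiftRange (T := T) Z n := by
      cases n with
      | zero =>
        refine ⟨degZero T.X₃, ?_⟩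
        ext y
        constructor
        · rintro ⟨_, ⟨x, rfl⟩, rfl⟩
          exact ⟨degZero T.X₂ x, (degZero_natural T.g x).symm⟩
        · rintro ⟨x, rfl⟩
          refine ⟨_, ⟨(degZero T.X₂).symm x, rfl⟩, ?_⟩
          refine (degZero_natural T.g _).trans ?_
          rw [AddEquiv.apply_symm_apply]
          rfl
      | succ m =>
        obtain ⟨e⟩ := ih T.X₃ hQ
        refine ⟨e, ?_⟩
        have h₁ : shiftRange (T := T.map (BigSite.resZar (Scheme.precoverage P) S)) Z' (m + 1) = ⊥ := by
          refine (AddSubgroup.eq_bot_iff_forall _).2 ?_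
          rintro _ ⟨x, rfl⟩
          rw [Ext.eq_zero_of_injective x, map_zero]
        have h₂ : shiftRange (T := T) Z (m + 1) = ⊥ := by
          refine (AddSubgroup.eq_bot_iff_forall _).2 ?_
          rintro _ ⟨x, rfl⟩
          rw [Ext.eq_zero_of_injective x, map_zero]
        rw [h₁, h₂, AddSubgroup.map_bot]
    exact ⟨(shiftEquiv hT' Z' n).symm.trans ((QuotientAddGroup.congr _ _ e he).trans (shiftEquiv hT Z n))⟩

end Groth.Agent.H02CA.Adq
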